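import Cfsg.Agent.Lib.Solv.Cores
import Mathlib.GroupTheory.GroupAction.Primitive
import Mathlib.GroupTheory.PGroup
import Mathlib.GroupTheory.IndexNormal

/-!
Extremely primitive groups: a stabiliser with a normal two-point stabiliser, and the centre.
-/

set_option autoImplicit false
open scoped Pointwise
open MulAction

namespace Cfsg.Agent.Lie.ExtPrim

variable {G Ω : Type*} [Group G] [Finite G] [MulAction G Ω] [FaithfulSMul G Ω] [Finite Ω]

/-- Primitivity with all the subconstituents primitive and nontrivial stabilisers. -/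
structure Hyp (G Ω : Type*) [Group G] [MulAction G Ω] : Prop where
  prim : IsPreprimitive G Ω
  ep : ∀ a w : Ω, IsPreprimitive (stabilizer G a) (orbit (stabilizer G a) w)
  ne : ∀ a : Ω, stabilizer G a ≠ ⊥

variable (h : Hyp G Ω)

omit [Finite G] [Finite Ω] in
theorem eq_one_of_fix {g : G} (hg : ∀ x : Ω, g • x = x) : g = 1 :=
  eq_of_smul_eq_smul (α := Ω) fun (x : Ω) => by rw [hg x, one_smul]

include h

omit [Finite Ω] in
theorem exists_moved (a : Ω) : ∃ w : Ω, ∃ g ∈ stabilizer G a, g • w ≠ w := by
  by_contra hc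
  push Not at hc
  refine h.ne a ((Subgroup.eq_bot_iff_forall _).2 fun g hg => eq_one_of_fix (Ω := Ω) fun x => hc x g hg)

omit [Finite Ω] in
theorem normal_stab_bot (a : Ω) (N : Subgroup G) (hN : N ≤ stabilizer G a) (hn : N.Normal) : N = ⊥ := by
  refine (Subgroup.eq_bot_iff_forall _).2 fun n hn' => eq_one_of_fix (Ω := Ω) fun x => ?_
  haveI := h.prim.toIsPretransitive
  obtain ⟨g, rfl⟩ := exists_smul_eq G a x
  have := hN (hn.conj_mem n hn' g⁻¹)
  rw [mem_stabilizer_iff, mul_smul, mul_smul, inv_inv, inv_smul_eq_iff] at this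
  exact this

theorem eq_of_stab_eq {a b : Ω} (hab : stabilizer G a = stabilizer G b) : a = b := by
  haveI := h.prim.toIsPretransitive
  haveI := h.prim
  by_contra hne
  haveI : Nontrivial Ω := ⟨a, b, hne⟩
  obtain ⟨g, hg⟩ := exists_smul_eq G a b
  have hN : g ∈ Subgroup.normalizer (stabilizer G a : Set G) := by
    rw [Subgroup.mem_normalizer_iff]
    intro x
    conv_rhs => rw [hab, ← hg, mem_stabilizer_iff, mul_smul, mul_smul, inv_smul_smul, smul_left_cancel_iff]
    exact Iff.rfl
  rcases (IsPreprimitive.isCoatom_stabilizer_of_isPreprimitive (G := G) a).le_iff.1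
    (Subgroup.le_normalizer (H := stabilizer G a)) with ht | he
  · exact h.ne a (normal_stab_bot h a _ le_rfl (Subgroup.normalizer_eq_top_iff.1 ht))
  · rw [he] at hN
    exact hne (hg ▸ (mem_stabilizer_iff.1 hN).symm)

theorem eq_top_of_two {a b : Ω} (hab : a ≠ b) (M : Subgroup G) (ha : stabilizer G a ≤ M)
    (hb : stabilizer G b ≤ M) : M = ⊤ := by
  haveI := h.prim.toIsPretransitive
  haveI := h.prim
  haveI : Nontrivial Ω := ⟨a, b, hab⟩
  rcases (IsPreprimitive.isCoatom_stabilizer_of_isPreprimitive (G := G) a).le_iff.1 ha with ht | he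
  · exact ht
  · refine absurd (eq_of_stab_eq h ?_) hab
    refine (Subgroup.eq_of_le_of_card_ge (hb.trans_eq he) (le_of_eq ?_)).symm
    obtain ⟨g, rfl⟩ := exists_smul_eq G a b
    exact Nat.card_congr (stabilizerEquivStabilizer (g := g) (a := a) (b := g • a) rfl).toEquiv

/-- A subgroup fixing a point and normalised by the stabilisers of two points is trivial. -/
theorem normal_bot {a b : Ω} (hab : a ≠ b) (N : Subgroup G) (hN : N ≤ stabilizer G a)
    (ha : stabilizer G a ≤ Subgroup.normalizer (N : Set G))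
    (hb : stabilizer G b ≤ Subgroup.normalizer (N : Set G)) : N = ⊥ :=
  normal_stab_bot h a N hN (Subgroup.normalizer_eq_top_iff.1 (eq_top_of_two h hab _ ha hb))

/-- A set preserved by the stabilisers of two points is everything or empty. -/
theorem set_univ {a b : Ω} (hab : a ≠ b) (U : Set Ω) (hU : U.Nonempty)
    (ha : ∀ g ∈ stabilizer G a, g • U = U) (hb : ∀ g ∈ stabilizer G b, g • U = U) : U = Set.univ := by
  haveI := h.prim.toIsPretransitive
  have ht := eq_top_of_two h hab (stabilizer G U) ha hb
  obtain ⟨u, hu⟩ := hU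
  refine Set.eq_univ_of_forall fun x => ?_
  obtain ⟨g, rfl⟩ := exists_smul_eq G u x
  have : g • U = U := mem_stabilizer_iff.1 (ht ▸ Subgroup.mem_top g)
  exact this ▸ Set.smul_mem_smul_set hu

/-- A normal subgroup of a stabiliser is trivial or transitive on each suborbit. -/
theorem fix_or_transitive (a w : Ω) (N : Subgroup G) (hN : N ≤ stabilizer G a)
    (hn : stabilizer G a ≤ Subgroup.normalizer (N : Set G)) :
    (∀ x ∈ orbit (stabilizer G a) w, ∀ n ∈ N, n • x = x) ∨
      (∀ x ∈ orbit (stabilizer G a) w, ∃ n ∈ N, n • w = x) := by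
  haveI := h.ep a w
  haveI : (N.subgroupOf (stabilizer G a)).Normal :=
    (Subgroup.normal_subgroupOf_iff_le_normalizer hN).2 hn
  let w0 : orbit (stabilizer G a) w := ⟨w, mem_orbit_self w⟩
  rcases (IsPreprimitive.isTrivialBlock_of_isBlock
    (IsBlock.orbit_of_normal (N := N.subgroupOf (stabilizer G a)) w0)) with hs | hu
  · left
    intro x hx n hn'
    have hfix : ∀ m ∈ N, m • w = w := fun m hm =>
      congrArg Subtype.val (hs (mem_orbit w0 (⟨⟨m, hN hm⟩, hm⟩ : N.subgroupOf (stabilizer G a))) (mem_orbit_self w0))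
    obtain ⟨⟨k, hk⟩, rfl⟩ := hx
    show n • k • w = k • w
    have hc : k⁻¹ * n * k⁻¹⁻¹ ∈ N := (Subgroup.mem_normalizer_iff.1 (hn (inv_mem hk)) n).1 hn'
    have := hfix _ hc
    rw [inv_inv, mul_smul, mul_smul, inv_smul_eq_iff] at this
    exact this
  · right
    intro x hx
    obtain ⟨m, hm⟩ : (⟨x, hx⟩ : orbit (stabilizer G a) w) ∈ orbit (N.subgroupOf (stabilizer G a)) w0 :=
      hu ▸ Set.mem_univ _
    exact ⟨m.1.1, m.2, congrArg Subtype.val hm⟩

/-- A suborbit of prime length with normal two-point stabiliser forces a stabiliser of prime order. -/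
theorem prime_of_normal (a w : Ω) (q : ℕ) (hq : q.Prime)
    (hcard : Nat.card (orbit (stabilizer G a) w) = q)
    (hn : ∀ g ∈ stabilizer G a, g ∈ Subgroup.normalizer ((stabilizer G a ⊓ stabilizer G w : Subgroup G) : Set G)) :
    Nat.card (stabilizer G a) = q := by
  classical
  haveI := h.prim.toIsPretransitive
  haveI := Fact.mk hq
  set H := stabilizer G a with hH
  set K := stabilizer G a ⊓ stabilizer G w with hK
  have haw : a ≠ w := by
    rintro rfl
    have hsub : Subsingleton (orbit H a) := ⟨fun u v => by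
      obtain ⟨⟨g, hg⟩, hu⟩ := u.2
      obtain ⟨⟨g', hg'⟩, hv⟩ := v.2
      exact Subtype.ext (hu.symm.trans ((show g • a = a from hg).trans ((show g' • a = a from hg').symm.trans hv)))⟩
    rw [Nat.card_of_subsingleton ⟨a, mem_orbit_self a⟩] at hcard
    exact hq.ne_one hcard.symm
  haveI hKn : (K.subgroupOf H).Normal :=
    (Subgroup.normal_subgroupOf_iff_le_normalizer inf_le_left).2 hn
  have hsub : K.subgroupOf H = stabilizer H w := by
    ext g
    simp only [hK, Subgroup.mem_subgroupOf, Subgroup.mem_inf, mem_stabilizer_iff, Subgroup.smul_def]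
    exact ⟨fun e => e.2, fun e => ⟨mem_stabilizer_iff.1 g.2, e⟩⟩
  have hidx : (K.subgroupOf H).index = q := by rw [hsub, index_stabilizer]; simpa using hcard
  have hpq : IsPGroup q H := by
    intro x
    obtain ⟨k, hk⟩ : ∃ k, orderOf x = q ^ k := by
      refine ⟨_, Nat.eq_prime_pow_of_unique_prime_dvd (orderOf_pos x).ne' fun {r} hr hrd => ?_⟩
      by_contra hrq
      haveI := Fact.mk hr
      set y : H := x ^ (orderOf x / r) with hy
      have hyo : orderOf y = r := by
        rw [hy, orderOf_pow_orderOf_div (orderOf_pos x).ne' hrd]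
      -- elements of order `r` propagate along the orbital
      let Step : Ω → Ω → Prop := fun b c => ∃ g : G, g • a = b ∧ g • w = c
      let U : Ω → Set Ω := fun b => {c | Relation.ReflTransGen Step b c}
      have hstep : ∀ z : G, z ^ r = 1 → ∀ b c, Step b c → z • b = b → z • c = c := by
        rintro z hz b c ⟨g, rfl, rfl⟩ hzb
        have hmem : g⁻¹ * z * g ∈ H := by
          rw [hH, mem_stabilizer_iff, mul_smul, mul_smul, hzb, inv_smul_smul]
        set z' : H := ⟨g⁻¹ * z * g, hmem⟩
        have h1 : z' ^ q ∈ K.subgroupOf H := by rw [← hidx]; exact Subgroup.pow_index_mem _ z'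
        have h2 : z' ^ r = 1 := by
          refine Subtype.ext ?_
          show (g⁻¹ * z * g) ^ r = 1
          rw [show g⁻¹ * z * g = MulAut.conj g⁻¹ z by simp, ← map_pow, hz, map_one]
        have h3 : z' ∈ K.subgroupOf H := by
          have hco : Nat.gcd q r = 1 := (Nat.coprime_primes hq hr).2 (Ne.symm hrq)
          have := Subgroup.mem_zpowers z'
          have e : z' = (z' ^ q) ^ Nat.gcdA q r * (z' ^ r) ^ Nat.gcdB q r := by
            rw [← zpow_natCast z' q, ← zpow_natCast z' r, ← zpow_mul, ← zpow_mul, ← zpow_add,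
              ← Nat.gcd_eq_gcd_ab, hco, Nat.cast_one, zpow_one]
          rw [e, h2, one_zpow, mul_one]
          exact zpow_mem h1 _
        have h4 : (g⁻¹ * z * g) • w = w := mem_stabilizer_iff.1 (Subgroup.mem_inf.1 h3).2
        rw [mul_smul, mul_smul, inv_smul_eq_iff] at h4
        exact h4
      have hequiv : ∀ (g : G) b, g • U b = U (g • b) := by
        have key : ∀ (g : G) b c, Relation.ReflTransGen Step b c → Relation.ReflTransGen Step (g • b) (g • c) := by
          intro g b c hbc
          exact hbc.lift (g • ·) fun u v ⟨k, hu, hv⟩ => ⟨g * k, by rw [mul_smul, hu], by rw [mul_smul, hv]⟩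
        intro g b
        ext c
        rw [Set.mem_smul_set_iff_inv_smul_mem]
        constructor
        · intro hc
          have h' := key g _ _ hc
          rw [smul_inv_smul] at h'
          exact h'
        · intro hc
          have h' := key g⁻¹ _ _ hc
          rw [inv_smul_smul] at h'
          exact h'
      have hw : w ∈ U a := Relation.ReflTransGen.single ⟨1, one_smul _ _, one_smul _ _⟩
      have hUw : U w = U a := by
        obtain ⟨g, hg⟩ := exists_smul_eq G a w
        refine Set.eq_of_subset_of_ncard_le (fun c hc => (hw : Relation.ReflTransGen Step a w).trans hc) ?_ (Set.toFinite _)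
        rw [← hg, ← hequiv, ← Set.image_smul, Set.ncard_image_of_injective _ (MulAction.injective g)]
      have huniv := set_univ h haw (U a) ⟨a, Relation.ReflTransGen.refl⟩
        (fun g hg => by rw [hequiv, mem_stabilizer_iff.1 hg])
        (fun g hg => by rw [← hUw, hequiv, mem_stabilizer_iff.1 hg])
      have hy1 : (y : G) ^ r = 1 := by
        rw [← Subgroup.coe_pow, ← hyo, pow_orderOf_eq_one, Subgroup.coe_one]
      have hall : ∀ c, Relation.ReflTransGen Step a c → (y : G) • c = c := by
        intro c hc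
        induction hc with
        | refl => exact mem_stabilizer_iff.1 y.2
        | tail _ hbc ih => exact hstep _ hy1 _ _ hbc ih
      have : y = 1 := Subtype.ext (eq_one_of_fix fun c => hall c (show c ∈ U a from huniv ▸ Set.mem_univ c))
      rw [this, orderOf_one] at hyo
      exact hr.ne_one hyo.symm
    exact ⟨k, by rw [← hk]; exact pow_orderOf_eq_one x⟩
  -- the two-point stabiliser is normal in both stabilisers
  obtain ⟨g, hg⟩ := exists_smul_eq G a w
  have hcw : Nat.card (stabilizer G w) = Nat.card H :=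
    (Nat.card_congr (stabilizerEquivStabilizer (g := g) (a := a) (b := w) hg.symm).toEquiv).symm
  have hpw : IsPGroup q (stabilizer G w) := by
    obtain ⟨k, hk⟩ := IsPGroup.iff_card.1 hpq
    exact IsPGroup.of_card (hcw.trans hk)
  have hidx' : (K.subgroupOf (stabilizer G w)).index = q := by
    have e1 := (K.subgroupOf H).card_mul_index
    have e2 := (K.subgroupOf (stabilizer G w)).card_mul_index
    rw [Nat.card_congr (Subgroup.subgroupOfEquivOfLe (show K ≤ H from inf_le_left)).toEquiv, hidx] at e1
    rw [Nat.card_congr (Subgroup.subgroupOfEquivOfLe (show K ≤ stabilizer G w from inf_le_right)).toEquiv, hcw,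
      ← e1] at e2
    exact Nat.eq_of_mul_eq_mul_left Nat.card_pos e2
  haveI hKn' : (K.subgroupOf (stabilizer G w)).Normal := by
    refine Subgroup.normal_of_index_eq_minFac_card ?_
    obtain ⟨k, hk⟩ := IsPGroup.iff_card.1 hpw
    have hk0 : k ≠ 0 := by
      rintro rfl
      rw [pow_zero] at hk
      have := (K.subgroupOf (stabilizer G w)).index_dvd_card
      rw [hidx', hk, Nat.dvd_one] at this
      exact hq.ne_one this
    rw [hidx', hk, Nat.pow_minFac hk0, hq.minFac_eq]
  have hbot : K = ⊥ := normal_bot h haw K inf_le_left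
    ((Subgroup.normal_subgroupOf_iff_le_normalizer inf_le_left).1 hKn)
    ((Subgroup.normal_subgroupOf_iff_le_normalizer inf_le_right).1 hKn')
  have e1 := (K.subgroupOf H).card_mul_index
  rw [hidx, hbot, Subgroup.bot_subgroupOf, Subgroup.card_bot, one_mul] at e1
  exact e1.symm

theorem center_bot (a : Ω) (hp : ¬ (Nat.card (stabilizer G a)).Prime) :
    Subgroup.center (stabilizer G a) = ⊥ := by
  classical
  by_contra hne
  obtain ⟨z, hz, hz1⟩ := (Subgroup.ne_bot_iff_exists_ne_one.1 hne) |> fun ⟨z, hz⟩ => (⟨z.1, z.2, fun e => hz (Subtype.ext e)⟩ : ∃ z ∈ Subgroup.center (stabilizer G a), z ≠ 1)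
  obtain ⟨w, hzw⟩ : ∃ w, (z : G) • w ≠ w := by
    by_contra hc
    push Not at hc
    exact hz1 (Subtype.ext (eq_one_of_fix (Ω := Ω) hc))
  -- a power of `z` of prime period on `w`
  set m := Function.minimalPeriod ((z : G) • ·) w with hm
  have hm1 : m ≠ 1 := fun e => hzw (Function.minimalPeriod_eq_one_iff_isFixedPt.1 e)
  have hperN : ((z : G) ^ orderOf (z : G)) • w = w := by rw [pow_orderOf_eq_one, one_smul]
  have hm0 : 0 < m :=
    Function.IsPeriodicPt.minimalPeriod_pos (orderOf_pos (z : G)) (by
      show ((z : G) • ·)^[orderOf (z : G)] w = w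
      rw [smul_iterate]; exact hperN)
  obtain ⟨q, hq, hqm⟩ := Nat.exists_prime_and_dvd hm1
  set y : G := (z : G) ^ (m / q) with hy
  have hyH : y ∈ stabilizer G a := pow_mem z.2 _
  have hyc : ∀ g ∈ stabilizer G a, g * y = y * g := fun g hg => by
    have := (Subgroup.mem_center_iff.1 (pow_mem hz (m / q))) ⟨g, hg⟩
    exact congrArg Subtype.val this
  have hyw : y • w ≠ w := by
    intro e
    have hd : m ∣ m / q := by
      rw [hm]
      exact MulAction.pow_smul_eq_iff_minimalPeriod_dvd.1 (by rw [← hy]; exact e)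
    have hlt : m / q < m := Nat.div_lt_self hm0 hq.one_lt
    have := Nat.le_of_dvd (Nat.div_pos (Nat.le_of_dvd hm0 hqm) hq.pos) hd
    omega
  have hyq : y ^ q • w = w := by
    rw [hy, ← pow_mul, Nat.div_mul_cancel hqm, hm]
    exact MulAction.pow_smul_eq_iff_minimalPeriod_dvd.2 dvd_rfl
  set Y := Subgroup.zpowers y with hY
  have hYn : stabilizer G a ≤ Subgroup.normalizer (Y : Set G) := fun g hg => by
    refine (Subgroup.centralizer_le_normalizer (Y : Set G)) ?_
    rw [hY, Subgroup.mem_centralizer_iff]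
    intro u hu
    obtain ⟨i, rfl⟩ := Subgroup.mem_zpowers_iff.1 hu
    exact ((show Commute g y from hyc g hg).zpow_right i).eq.symm
  have hcard : Nat.card (orbit (stabilizer G a) w) = q := by
    rcases fix_or_transitive h a w Y (Subgroup.zpowers_le.2 hyH) hYn with hf | ht
    · exact absurd (hf w (mem_orbit_self w) y (Subgroup.mem_zpowers y)) hyw
    · have he : (orbit (stabilizer G a) w : Set Ω) = orbit (Subgroup.zpowers y) w := by
        ext x
        constructor
        · intro hx
          obtain ⟨n, hn, rfl⟩ := ht x hx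
          exact ⟨⟨n, hn⟩, rfl⟩
        · rintro ⟨⟨n, hn⟩, rfl⟩
          exact ⟨⟨n, Subgroup.zpowers_le.2 hyH hn⟩, rfl⟩
      haveI : Fintype (orbit (Subgroup.zpowers y) w) := Fintype.ofFinite _
      rw [Nat.card_congr (Equiv.setCongr he), Nat.card_eq_fintype_card, ← MulAction.minimalPeriod_eq_card]
      haveI := Fact.mk hq
      refine Function.minimalPeriod_eq_prime ?_ hyw
      show (y • ·)^[q] w = w
      rw [smul_iterate]
      exact hyq
  suffices hn : ∀ g ∈ stabilizer G a,
      g ∈ Subgroup.normalizer ((stabilizer G a ⊓ stabilizer G w : Subgroup G) : Set G) from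
    hp ((prime_of_normal h a w q hq hcard hn).symm ▸ hq)
  intro g hg
  rw [Subgroup.mem_normalizer_iff]
  have hfix : ∀ k ∈ stabilizer G a ⊓ stabilizer G w, ∀ x ∈ orbit (stabilizer G a) w, k • x = x := by
    intro k hk x hx
    rcases fix_or_transitive h a w Y (Subgroup.zpowers_le.2 hyH) hYn with hf | ht
    · exact absurd (hf w (mem_orbit_self w) y (Subgroup.mem_zpowers y)) hyw
    · obtain ⟨n, hn, rfl⟩ := ht x hx
      obtain ⟨i, rfl⟩ := Subgroup.mem_zpowers_iff.1 hn
      rw [← mul_smul, ((show Commute k y from hyc k hk.1).zpow_right i).eq, mul_smul, mem_stabilizer_iff.1 hk.2]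
  have key : ∀ g : G, g ∈ stabilizer G a → ∀ k : G, k ∈ stabilizer G a ⊓ stabilizer G w →
      g * k * g⁻¹ ∈ stabilizer G a ⊓ stabilizer G w := by
    intro g hg k hk
    refine Subgroup.mem_inf.2 ⟨mul_mem (mul_mem hg hk.1) (inv_mem hg), ?_⟩
    show (g * k * g⁻¹) • w = w
    rw [mul_smul, mul_smul, hfix k hk (g⁻¹ • w) ⟨⟨g⁻¹, inv_mem hg⟩, rfl⟩, smul_inv_smul]
  intro k
  refine ⟨key g hg k, fun hk => ?_⟩
  have := key g⁻¹ (inv_mem hg) _ hk
  simpa [mul_assoc] using this

end Cfsg.Agent.Lie.ExtPrim
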