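import Cfsg.Agent.Lib.Lie.ExtremelyPrimitive.Basic

/-!
Extremely primitive groups: the largest normal `p`-subgroup of a stabiliser is elementary abelian and
semiregular away from the fixed point.
-/

set_option autoImplicit false
open scoped Pointwise
open MulAction

namespace Cfsg.Agent.Lie.ExtPrim

variable {G Ω : Type*} [Group G] [Finite G] [MulAction G Ω] [FaithfulSMul G Ω] [Finite Ω]
  (p : ℕ) [hp : Fact p.Prime]

/-- The largest normal `p`-subgroup of the stabiliser of a point, as a subgroup of the group. -/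
def core (a : Ω) : Subgroup G :=
  (Cfsg.pCore p (stabilizer G a)).map (stabilizer G a).subtype

omit [FaithfulSMul G Ω] [Finite Ω] hp [Finite G] in
theorem core_le (a : Ω) : core (G := G) p a ≤ stabilizer G a := Subgroup.map_subtype_le _

omit [FaithfulSMul G Ω] [Finite Ω] in
theorem core_isPGroup (a : Ω) : IsPGroup p (core (G := G) p a) :=
  (Solv.pCore_isPGroup p).map _

omit [FaithfulSMul G Ω] [Finite Ω] hp [Finite G] in
theorem le_normalizer_core (a : Ω) : stabilizer G a ≤ Subgroup.normalizer (core (G := G) p a : Set G) := by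
  haveI := Solv.pCore_normal (G := stabilizer G a) p
  rw [← Subgroup.normal_subgroupOf_iff_le_normalizer (core_le p a)]
  unfold core
  rw [Subgroup.subgroupOf, Subgroup.comap_map_eq_self_of_injective (Subgroup.subtype_injective _)]
  infer_instance

omit [FaithfulSMul G Ω] [Finite Ω] hp [Finite G] in
theorem le_core (a : Ω) (Q : Subgroup G) (hQ : Q ≤ stabilizer G a) (hp' : IsPGroup p Q)
    (hn : stabilizer G a ≤ Subgroup.normalizer (Q : Set G)) : Q ≤ core p a := by
  haveI : (Q.subgroupOf (stabilizer G a)).Normal := (Subgroup.normal_subgroupOf_iff_le_normalizer hQ).2 hn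
  intro x hx
  exact ⟨⟨x, hQ hx⟩, Solv.normal_le_pCore (N := Q.subgroupOf (stabilizer G a)) (hp'.comap_subtype (K := stabilizer G a)) hx, rfl⟩

omit [FaithfulSMul G Ω] [Finite Ω] in
theorem conj_core_le (g : G) (a : Ω) :
    (core (G := G) p a).map (MulAut.conj g).toMonoidHom ≤ core p (g • a) := by
  refine le_core p _ _ ?_ ((core_isPGroup p a).map _) ?_
  · rintro _ ⟨x, hx, rfl⟩
    have := mem_stabilizer_iff.1 (core_le p a hx)
    simp [mem_stabilizer_iff, mul_smul, this]
  · intro s hs
    have hs' : g⁻¹ * s * g ∈ stabilizer G a := by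
      rw [mem_stabilizer_iff, mul_smul, mul_smul, mem_stabilizer_iff.1 hs, inv_smul_smul]
    have hn := le_normalizer_core (G := G) p a hs'
    rw [Subgroup.mem_normalizer_iff] at hn ⊢
    intro x
    have e : ∀ y, y ∈ (core (G := G) p a).map (MulAut.conj g).toMonoidHom ↔ g⁻¹ * y * g ∈ core (G := G) p a :=
      fun y => ⟨by rintro ⟨u, hu, rfl⟩; simpa [mul_assoc] using hu, fun hy => ⟨_, hy, by simp [mul_assoc]⟩⟩
    rw [e, e]
    have := hn (g⁻¹ * x * g)
    rw [this]
    simp [mul_assoc]

omit [FaithfulSMul G Ω] [Finite Ω] in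
theorem core_smul (g : G) (a : Ω) (x : G) : g * x * g⁻¹ ∈ core p (g • a) ↔ x ∈ core p a := by
  constructor
  · intro h
    have := conj_core_le p g⁻¹ (g • a) ⟨_, h, rfl⟩
    simpa [mul_assoc] using this
  · exact fun h => conj_core_le p g a ⟨x, h, rfl⟩

omit [FaithfulSMul G Ω] [Finite Ω] in
theorem card_core (g : G) (a : Ω) : Nat.card (core (G := G) p (g • a)) = Nat.card (core (G := G) p a) := by
  refine (Nat.card_congr (Equiv.subtypeEquiv (MulAut.conj g).toEquiv fun x => ?_)).symm
  simpa using (core_smul p g a x).symm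

variable (h : Hyp G Ω)
include h

/-- The core is abelian of exponent `p`. -/
theorem core_abelian (a : Ω) :
    (∀ x ∈ core (G := G) p a, ∀ y ∈ core (G := G) p a, x * y = y * x) ∧
      (∀ x ∈ core (G := G) p a, x ^ p = 1) := by
  classical
  set P := core (G := G) p a with hPdef
  set H := stabilizer G a
  have hPH : P ≤ H := core_le p a
  have hPn : ∀ g ∈ H, ∀ x, x ∈ P → g * x * g⁻¹ ∈ P := fun g hg x hx =>
    (Subgroup.mem_normalizer_iff.1 (le_normalizer_core p a hg) x).1 hx
  -- on each suborbit: commutation and `p`-th powers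
  have main : ∀ w : Ω, (∀ x ∈ P, ∀ y ∈ P, x • y • w = y • x • w) := by
    intro w
    rcases fix_or_transitive h a w P hPH (le_normalizer_core p a) with hf | ht
    · intro x hx y hy
      rw [hf w (mem_orbit_self w) y hy, hf w (mem_orbit_self w) x hx, hf w (mem_orbit_self w) y hy]
    · set O := orbit H w
      by_cases hfix : ∀ x ∈ P, ∀ o ∈ O, x • o = o
      · intro x hx y hy
        rw [hfix y hy w (mem_orbit_self w), hfix x hx w (mem_orbit_self w), hfix y hy w (mem_orbit_self w)]
      -- the preimage of the centre of the image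
      let Zc : Subgroup G :=
        { carrier := {z | z ∈ P ∧ ∀ r ∈ P, ∀ o ∈ O, z • r • o = r • z • o}
          one_mem' := ⟨one_mem _, fun r _ o _ => by simp⟩
          mul_mem' := fun {u v} hu hv => ⟨mul_mem hu.1 hv.1, fun r hr o ho => by
            have hvo : v • o ∈ O := by
              obtain ⟨k, rfl⟩ := ho
              exact ⟨⟨v, hPH hv.1⟩ * k, mul_smul _ _ _⟩
            rw [mul_smul, mul_smul, hv.2 r hr o ho, hu.2 r hr _ hvo]⟩
          inv_mem' := fun {u} hu => ⟨inv_mem hu.1, fun r hr o ho => by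
            have huo : u⁻¹ • o ∈ O := by
              obtain ⟨k, rfl⟩ := ho
              exact ⟨⟨u⁻¹, hPH (inv_mem hu.1)⟩ * k, mul_smul _ _ _⟩
            have := hu.2 r hr _ huo
            rw [smul_inv_smul] at this
            rw [← this, inv_smul_smul]⟩ }
      have hZn : H ≤ Subgroup.normalizer (Zc : Set G) := by
        have key : ∀ g : G, g ∈ H → ∀ z, z ∈ Zc → g * z * g⁻¹ ∈ Zc := by
          intro g hg z hz
          refine ⟨hPn g hg z hz.1, fun r hr o ho => ?_⟩
          have hr' := hPn g⁻¹ (inv_mem hg) r hr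
          have ho' : g⁻¹ • o ∈ O := by
            obtain ⟨k, rfl⟩ := ho
            exact ⟨⟨g⁻¹, inv_mem hg⟩ * k, mul_smul _ _ _⟩
          have := hz.2 _ hr' _ ho'
          simp only [inv_inv, mul_smul, inv_smul_smul, smul_inv_smul] at this
          simp only [mul_smul]
          rw [this, smul_inv_smul]
        intro g hg
        rw [Subgroup.mem_normalizer_iff]
        intro z
        refine ⟨key g hg z, fun hz => ?_⟩
        simpa [mul_assoc] using key g⁻¹ (inv_mem hg) _ hz
      have hZt : ∀ o ∈ O, ∃ z ∈ Zc, z • w = o := by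
        rcases fix_or_transitive h a w Zc (fun z hz => hPH hz.1) hZn with hzf | hzt
        · exfalso
          -- the centre of the image is nontrivial
          let φ : P →* Equiv.Perm O :=
            { toFun := fun x =>
                { toFun := fun o => ⟨(x : G) • o.1, by
                    obtain ⟨k, hk⟩ := o.2
                    exact ⟨⟨x, hPH x.2⟩ * k, by show ((x : G) * (k : G)) • w = _; rw [mul_smul]; exact congrArg ((x : G) • ·) hk⟩⟩
                  invFun := fun o => ⟨(x : G)⁻¹ • o.1, by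
                    obtain ⟨k, hk⟩ := o.2
                    exact ⟨⟨x, hPH x.2⟩⁻¹ * k, by show ((x : G)⁻¹ * (k : G)) • w = _; rw [mul_smul]; exact congrArg ((x : G)⁻¹ • ·) hk⟩⟩
                  left_inv := fun o => Subtype.ext (inv_smul_smul _ _)
                  right_inv := fun o => Subtype.ext (smul_inv_smul _ _) }
              map_one' := Equiv.ext fun o => Subtype.ext (one_smul _ _)
              map_mul' := fun x y => Equiv.ext fun o => Subtype.ext (mul_smul _ _ _) }
          haveI : Nontrivial φ.range := by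
            rw [Subgroup.nontrivial_iff_ne_bot]
            intro hb
            refine hfix fun x hx o ho => ?_
            have : φ ⟨x, hx⟩ ∈ φ.range := ⟨_, rfl⟩
            rw [hb, Subgroup.mem_bot] at this
            exact congrArg Subtype.val (Equiv.ext_iff.1 this ⟨o, ho⟩)
          haveI : Finite φ.range := Finite.of_surjective φ.rangeRestrict φ.rangeRestrict_surjective
          haveI := ((core_isPGroup (G := G) p a).of_surjective φ.rangeRestrict φ.rangeRestrict_surjective).center_nontrivial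
          obtain ⟨⟨⟨_, z, rfl⟩, hzc⟩, hz1⟩ := exists_ne (1 : Subgroup.center φ.range)
          refine hz1 (Subtype.ext (Subtype.ext (Equiv.ext fun o => Subtype.ext ?_)))
          refine hzf o.1 o.2 z.1 ⟨z.2, fun r hr o ho => ?_⟩
          have := congrArg Subtype.val ((Subgroup.mem_center_iff.1 hzc) ⟨φ ⟨r, hr⟩, _, rfl⟩)
          exact (congrArg Subtype.val (Equiv.ext_iff.1 this ⟨o, ho⟩)).symm
        · exact hzt
      intro x hx y hy
      obtain ⟨z, hz, hzw⟩ := hZt (x • w) ⟨⟨x, hPH hx⟩, rfl⟩
      obtain ⟨z', hz', hzw'⟩ := hZt (y • w) ⟨⟨y, hPH hy⟩, rfl⟩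
      calc x • y • w = x • z' • w := by rw [hzw']
        _ = z' • x • w := (hz'.2 x hx w (mem_orbit_self w)).symm
        _ = z' • z • w := by rw [hzw]
        _ = z • z' • w := hz'.2 z hz.1 w (mem_orbit_self w)
        _ = z • y • w := by rw [hzw']
        _ = y • z • w := hz.2 y hy w (mem_orbit_self w)
        _ = y • x • w := by rw [hzw]
  have hcomm : ∀ x ∈ P, ∀ y ∈ P, x * y = y * x := fun x hx y hy =>
    eq_of_smul_eq_smul (α := Ω) fun (w : Ω) => by rw [mul_smul, mul_smul, main w x hx y hy]
  refine ⟨hcomm, fun x hx => eq_of_smul_eq_smul (α := Ω) fun (w : Ω) => ?_⟩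
  rw [one_smul]
  let Q : Subgroup G :=
    { carrier := {y | ∃ r ∈ P, r ^ p = y}
      one_mem' := ⟨1, one_mem _, one_pow p⟩
      mul_mem' := by
        rintro _ _ ⟨r, hr, rfl⟩ ⟨s, hs, rfl⟩
        exact ⟨r * s, mul_mem hr hs, (show Commute r s from hcomm r hr s hs).mul_pow p⟩
      inv_mem' := by
        rintro _ ⟨r, hr, rfl⟩
        exact ⟨r⁻¹, inv_mem hr, inv_pow r p⟩ }
  have hQH : Q ≤ H := by rintro _ ⟨r, hr, rfl⟩; exact pow_mem (hPH hr) p
  have hQn : H ≤ Subgroup.normalizer (Q : Set G) := by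
    have key : ∀ g : G, g ∈ H → ∀ y, y ∈ Q → g * y * g⁻¹ ∈ Q := by
      rintro g hg _ ⟨r, hr, rfl⟩
      exact ⟨g * r * g⁻¹, hPn g hg r hr, conj_pow⟩
    intro g hg
    rw [Subgroup.mem_normalizer_iff]
    intro y
    refine ⟨key g hg y, fun hy => ?_⟩
    simpa [mul_assoc] using key g⁻¹ (inv_mem hg) _ hy
  rcases fix_or_transitive h a w Q hQH hQn with hf | ht
  · exact hf w (mem_orbit_self w) _ ⟨x, hx, rfl⟩
  · have hroot : ∀ k : ℕ, ∀ r ∈ P, ∃ s ∈ P, s ^ p ^ k • w = r • w := by
      intro k
      induction k with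
      | zero => exact fun r hr => ⟨r, hr, by rw [pow_zero, pow_one]⟩
      | succ k ih =>
        intro r hr
        obtain ⟨s, hs, hsw⟩ := ih r hr
        obtain ⟨_, ⟨t, ht', rfl⟩, htw⟩ := ht (s • w) ⟨⟨s, hPH hs⟩, rfl⟩
        refine ⟨t, ht', ?_⟩
        rw [← hsw, pow_succ', pow_mul]
        -- `t ^ p` and `s` agree on `w`, and both commute
        have hiter : ∀ m : ℕ, (t ^ p) ^ m • w = s ^ m • w := by
          intro m
          induction m with
          | zero => simp
          | succ m ihm =>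
            rw [pow_succ', mul_smul, ihm, ← mul_smul,
              ((show Commute (t ^ p) s from hcomm _ (pow_mem ht' p) s hs).pow_right m).eq, mul_smul, htw,
              ← mul_smul, ← pow_succ]
        exact hiter _
    obtain ⟨k, hk⟩ := IsPGroup.iff_card.1 (core_isPGroup (G := G) p a)
    obtain ⟨s, hs, hsw⟩ := hroot k (x ^ p) (pow_mem hx p)
    rw [← hsw, ← hk, show Nat.card (core (G := G) p a) = Nat.card P from rfl,
      ← Subgroup.coe_mk P s hs, ← Subgroup.coe_pow, pow_card_eq_one', Subgroup.coe_one, one_smul]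

theorem core_comm {a : Ω} {x y : G} (hx : x ∈ core p a) (hy : y ∈ core p a) : x * y = y * x :=
  (core_abelian p h a).1 x hx y hy

/-- If the core moves `w` then the stabiliser factorises. -/
theorem factor {a w : Ω} (hw : ¬ core (G := G) p a ≤ stabilizer G w) {g : G} (hg : g ∈ stabilizer G a) :
    ∃ f ∈ core (G := G) p a, f⁻¹ * g ∈ stabilizer G a ⊓ stabilizer G w := by
  rcases fix_or_transitive h a w _ (core_le p a) (le_normalizer_core p a) with hf | ht
  · exact absurd (fun x hx => mem_stabilizer_iff.2 (hf w (mem_orbit_self w) x hx)) hw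
  · obtain ⟨f, hf, hfw⟩ := ht (g • w) ⟨⟨g, hg⟩, rfl⟩
    refine ⟨f, hf, Subgroup.mem_inf.2 ⟨mul_mem (inv_mem (core_le p a hf)) hg, ?_⟩⟩
    rw [mem_stabilizer_iff, mul_smul, ← hfw, inv_smul_smul]

/-- If the core moves `w`, normalising by the core and the two-point stabiliser suffices. -/
theorem normalizer_factor {a w : Ω} (hw : ¬ core (G := G) p a ≤ stabilizer G w) (D : Subgroup G)
    (hF : core (G := G) p a ≤ Subgroup.normalizer (D : Set G))
    (hK : stabilizer G a ⊓ stabilizer G w ≤ Subgroup.normalizer (D : Set G)) :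
    stabilizer G a ≤ Subgroup.normalizer (D : Set G) := fun g hg => by
  obtain ⟨f, hf, hk⟩ := factor p h hw hg
  simpa using mul_mem (hF hf) (hK hk)

theorem pair_small {a w : Ω} (hw : ¬ core (G := G) p a ≤ stabilizer G w) (Q : Subgroup G)
    (hQ : Q ≤ stabilizer G a ⊓ stabilizer G w) (hQp : IsPGroup p Q)
    (hQn : stabilizer G a ⊓ stabilizer G w ≤ Subgroup.normalizer (Q : Set G)) :
    Q ≤ core (G := G) p a := by
  classical
  set F := core (G := G) p a with hFdef
  have hFn := le_normalizer_core (G := G) p a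
  -- elements of `F` moving `w` to fixed points of `Q`
  let N : Subgroup G :=
    { carrier := {f | f ∈ F ∧ ∀ q ∈ Q, q • f • w = f • w}
      one_mem' := ⟨one_mem _, fun q hq => by simpa using mem_stabilizer_iff.1 (hQ hq).2⟩
      mul_mem' := fun {u v} hu hv => ⟨mul_mem hu.1 hv.1, fun q hq => by
        have hu' : q * u * q⁻¹ ∈ F := (Subgroup.mem_normalizer_iff.1 (hFn (hQ hq).1) u).1 hu.1
        have e1 : (q * u * q⁻¹) • w = u • w := by
          rw [mul_smul, mul_smul, mem_stabilizer_iff.1 (inv_mem (hQ hq).2), hu.2 q hq]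
        calc q • (u * v) • w = (q * u * q⁻¹) • q • v • w := by simp only [← mul_smul]; group
          _ = ((q * u * q⁻¹) * v) • w := by rw [hv.2 q hq, mul_smul (q * u * q⁻¹) v w]
          _ = v • u • w := by rw [core_comm p h hu' hv.1, mul_smul, e1]
          _ = (u * v) • w := by rw [← mul_smul, core_comm p h hv.1 hu.1]⟩
      inv_mem' := fun {u} hu => ⟨inv_mem hu.1, fun q hq => by
        have hu' : q * u * q⁻¹ ∈ F := (Subgroup.mem_normalizer_iff.1 (hFn (hQ hq).1) u).1 hu.1
        have e1 : (q * u * q⁻¹) • w = u • w := by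
          rw [mul_smul, mul_smul, mem_stabilizer_iff.1 (inv_mem (hQ hq).2), hu.2 q hq]
        have e2 : (q * u * q⁻¹) • q • u⁻¹ • w = w := by
          simp only [← mul_smul]
          rw [show q * u * q⁻¹ * (q * u⁻¹) = q by group, mem_stabilizer_iff.1 (hQ hq).2]
        have e3 : (q * u * q⁻¹) • u⁻¹ • w = w := by
          rw [← mul_smul, core_comm p h hu' (inv_mem hu.1), mul_smul, e1, inv_smul_smul]
        exact smul_left_cancel _ (e2.trans e3.symm)⟩ }
  have hNn : stabilizer G a ≤ Subgroup.normalizer (N : Set G) := by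
    refine normalizer_factor p h hw N (fun f hf => ?_) (fun k hk => ?_)
    · refine (Subgroup.centralizer_le_normalizer (N : Set G)) ?_
      rw [Subgroup.mem_centralizer_iff]
      exact fun u hu => core_comm p h hu.1 hf
    · have key : ∀ k : G, k ∈ stabilizer G a ⊓ stabilizer G w → ∀ f, f ∈ N → k * f * k⁻¹ ∈ N := by
        intro k hk f hf
        refine ⟨(Subgroup.mem_normalizer_iff.1 (hFn hk.1) f).1 hf.1, fun q hq => ?_⟩
        have hq' : k⁻¹ * q * k⁻¹⁻¹ ∈ Q := (Subgroup.mem_normalizer_iff.1 (hQn (inv_mem hk)) q).1 hq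
        have hfq := hf.2 _ hq'
        rw [inv_inv, mul_smul, mul_smul, inv_smul_eq_iff] at hfq
        rw [mul_smul, mul_smul, mem_stabilizer_iff.1 (inv_mem hk.2)]
        exact hfq
      rw [Subgroup.mem_normalizer_iff]
      intro f
      refine ⟨key k hk f, fun hf => ?_⟩
      simpa [mul_assoc] using key k⁻¹ (inv_mem hk) _ hf
  rcases fix_or_transitive h a w N (fun f hf => core_le p a hf.1) hNn with hfx | htr
  · exfalso
    -- a second fixed point of `Q` on the suborbit
    rcases fix_or_transitive h a w F (core_le p a) hFn with hf | ht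
    · exact hw fun x hx => mem_stabilizer_iff.2 (hf w (mem_orbit_self w) x hx)
    let O : Set Ω := orbit (stabilizer G a) w
    letI : MulAction Q O :=
      { smul := fun q o => ⟨(q : G) • o.1, by
          obtain ⟨k, hk⟩ := o.2
          exact ⟨⟨q, (hQ q.2).1⟩ * k, by show ((q : G) * (k : G)) • w = _; rw [mul_smul]; exact congrArg ((q : G) • ·) hk⟩⟩
        one_smul := fun o => Subtype.ext (one_smul _ _)
        mul_smul := fun q r o => Subtype.ext (mul_smul _ _ _) }
    have hdvd : p ∣ Nat.card O := by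
      have he : (orbit F w : Set Ω) = O := by
        ext x
        constructor
        · rintro ⟨⟨f, hf⟩, rfl⟩; exact ⟨⟨f, core_le p a hf⟩, rfl⟩
        · intro hx
          obtain ⟨f, hf, rfl⟩ := ht x hx
          exact ⟨⟨f, hf⟩, rfl⟩
      obtain ⟨k, hk⟩ := (core_isPGroup (G := G) p a).card_orbit w
      rw [← Nat.card_congr (Equiv.setCongr he), hk]
      refine dvd_pow_self p fun hk0 => hw fun x hx => ?_
      rw [hk0, pow_zero, Nat.card_eq_one_iff_unique] at hk
      haveI := hk.1
      exact mem_stabilizer_iff.2 (congrArg Subtype.val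
        (Subsingleton.elim (⟨x • w, ⟨x, hx⟩, rfl⟩ : orbit F w) ⟨w, mem_orbit_self w⟩))
    have hw0 : (⟨w, mem_orbit_self w⟩ : O) ∈ fixedPoints Q O := fun q =>
      Subtype.ext (mem_stabilizer_iff.1 (hQ q.2).2)
    obtain ⟨o, ho, hne⟩ := hQp.exists_fixed_point_of_prime_dvd_card_of_fixed_point O hdvd hw0
    obtain ⟨f, hf, hfo⟩ := ht o.1 o.2
    have hfN : f ∈ N := ⟨hf, fun q hq => by rw [hfo]; exact congrArg Subtype.val (ho ⟨q, hq⟩)⟩
    exact hne (Subtype.ext (by rw [← hfo]; exact (hfx w (mem_orbit_self w) f hfN).symm))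
  · -- `Q` fixes the suborbit pointwise
    let L : Subgroup G :=
      { carrier := {g | g ∈ stabilizer G a ∧ ∀ o ∈ orbit (stabilizer G a) w, g • o = o}
        one_mem' := ⟨one_mem _, fun o _ => one_smul _ _⟩
        mul_mem' := fun {u v} hu hv => ⟨mul_mem hu.1 hv.1, fun o ho => by rw [mul_smul, hv.2 o ho, hu.2 o ho]⟩
        inv_mem' := fun {u} hu => ⟨inv_mem hu.1, fun o ho => by rw [inv_smul_eq_iff, hu.2 o ho]⟩ }
    have hQL : Q ≤ L := fun q hq => ⟨(hQ hq).1, fun o ho => by
      obtain ⟨f, hf, rfl⟩ := htr o ho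
      exact hf.2 q hq⟩
    have hLK : L ≤ stabilizer G a ⊓ stabilizer G w := fun l hl =>
      Subgroup.mem_inf.2 ⟨hl.1, mem_stabilizer_iff.2 (hl.2 w (mem_orbit_self w))⟩
    have hLn : stabilizer G a ≤ Subgroup.normalizer (L : Set G) := by
      have key : ∀ g : G, g ∈ stabilizer G a → ∀ l, l ∈ L → g * l * g⁻¹ ∈ L := by
        intro g hg l hl
        refine ⟨mul_mem (mul_mem hg hl.1) (inv_mem hg), fun o ho => ?_⟩
        obtain ⟨k, rfl⟩ := ho
        show (g * l * g⁻¹) • ((k : G) • w) = (k : G) • w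
        have hmem : g⁻¹ • (k : G) • w ∈ orbit (stabilizer G a) w := ⟨⟨g⁻¹, inv_mem hg⟩ * k, mul_smul _ _ _⟩
        rw [mul_smul, mul_smul, hl.2 _ hmem, smul_inv_smul]
      intro g hg
      rw [Subgroup.mem_normalizer_iff]
      intro l
      refine ⟨key g hg l, fun hl => ?_⟩
      simpa [mul_assoc] using key g⁻¹ (inv_mem hg) _ hl
    set T := (Cfsg.pCore p L).map L.subtype with hT
    have hQT : Q ≤ T := by
      haveI : (Q.subgroupOf L).Normal :=
        (Subgroup.normal_subgroupOf_iff_le_normalizer hQL).2 (hLK.trans hQn)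
      intro x hx
      exact ⟨⟨x, hQL hx⟩, Solv.normal_le_pCore (N := Q.subgroupOf L) (hQp.comap_subtype (K := L)) hx, rfl⟩
    have hTn : stabilizer G a ≤ Subgroup.normalizer (T : Set G) := by
      intro g hg
      rw [Subgroup.mem_normalizer_iff]
      have key : ∀ g : G, g ∈ stabilizer G a → ∀ t, t ∈ T → g * t * g⁻¹ ∈ T := by
        intro g hg t ht
        obtain ⟨u, hu, rfl⟩ := ht
        let e : L ≃* L :=
          { toFun := fun l => ⟨g * l * g⁻¹, (Subgroup.mem_normalizer_iff.1 (hLn hg) _).1 l.2⟩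
            invFun := fun l => ⟨g⁻¹ * l * g, by
              have := (Subgroup.mem_normalizer_iff.1 (hLn (inv_mem hg)) _).1 l.2
              simpa using this⟩
            left_inv := fun l => Subtype.ext (by simp [mul_assoc])
            right_inv := fun l => Subtype.ext (by simp [mul_assoc])
            map_mul' := fun l m => Subtype.ext (by simp [mul_assoc]) }
        haveI := Solv.pCore_normal (G := L) p
        haveI : ((Cfsg.pCore p L).map e.toMonoidHom).Normal :=
          Subgroup.Normal.map inferInstance _ e.surjective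
        exact ⟨e u, Solv.normal_le_pCore (N := (Cfsg.pCore p L).map e.toMonoidHom)
          ((Solv.pCore_isPGroup p).map _) (Subgroup.mem_map_of_mem e.toMonoidHom hu), rfl⟩
      intro t
      refine ⟨key g hg t, fun ht => ?_⟩
      simpa [mul_assoc] using key g⁻¹ (inv_mem hg) _ ht
    exact hQT.trans (le_core p a T (fun t ht => by obtain ⟨u, -, rfl⟩ := ht; exact u.2.1)
      ((Solv.pCore_isPGroup p).map _) hTn)

theorem moved_pair {a w : Ω} (hw : ¬ core (G := G) p a ≤ stabilizer G w) :
    core (G := G) p a ⊓ stabilizer G w = ⊥ ∧ ¬ core (G := G) p w ≤ stabilizer G a := by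
  haveI := h.prim.toIsPretransitive
  have hne : a ≠ w := by
    rintro rfl
    exact hw (core_le p a)
  set K := stabilizer G a ⊓ stabilizer G w with hKdef
  have hnK : ∀ b : Ω, K ≤ stabilizer G b → K ≤ Subgroup.normalizer (core (G := G) p b : Set G) :=
    fun b hb => hb.trans (le_normalizer_core p b)
  have hinf : ∀ b c : Ω, (K ≤ stabilizer G b) → K ≤ stabilizer G c →
      K ≤ Subgroup.normalizer ((core (G := G) p b ⊓ stabilizer G c : Subgroup G) : Set G) := by
    intro b c hb hc k hk
    rw [Subgroup.mem_normalizer_iff]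
    intro x
    rw [Subgroup.mem_inf, Subgroup.mem_inf,
      (Subgroup.mem_normalizer_iff.1 (hnK b hb hk) x)]
    refine and_congr_right fun _ => ⟨fun hx => mul_mem (mul_mem (hc hk) hx) (inv_mem (hc hk)), fun hx => ?_⟩
    simpa [mul_assoc] using mul_mem (mul_mem (inv_mem (hc hk)) hx) (hc hk)
  set E := core (G := G) p w with hEdef
  have hE : ¬ E ≤ stabilizer G a := by
    intro hEa
    have hEK : E ≤ K := le_inf hEa (core_le p w)
    have hEF := pair_small p h hw E hEK (core_isPGroup p w) (hnK w inf_le_right)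
    obtain ⟨g, hg⟩ := exists_smul_eq G a w
    have hcard : Nat.card E = Nat.card (core (G := G) p a) := by rw [hEdef, ← hg, card_core]
    have := Subgroup.eq_of_le_of_card_ge hEF hcard.ge
    exact hw (this ▸ core_le p w)
  set D := core (G := G) p a ⊓ stabilizer G w with hDdef
  have hDK : D ≤ K := le_inf (inf_le_left.trans (core_le p a)) inf_le_right
  have hDp : IsPGroup p D := (core_isPGroup p a).to_le inf_le_left
  have hDn : K ≤ Subgroup.normalizer (D : Set G) := hinf a w inf_le_left inf_le_right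
  have hcomm : stabilizer G w ⊓ stabilizer G a = K := inf_comm _ _
  have hDE : D ≤ E := pair_small p h hE D (hcomm ▸ hDK) hDp (hcomm.symm ▸ hDn)
  have key : ∀ b : Ω, D ≤ core (G := G) p b → core (G := G) p b ≤ Subgroup.normalizer (D : Set G) := by
    intro b hb f hf
    refine (Subgroup.centralizer_le_normalizer (D : Set G)) ?_
    rw [Subgroup.mem_centralizer_iff]
    exact fun d hd => core_comm p h (hb hd) hf
  refine ⟨?_, hE⟩
  exact normal_bot h hne D (hDK.trans inf_le_left)
    (normalizer_factor p h hw D (key a inf_le_left) hDn)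
    (normalizer_factor p h hE D (key w hDE) (hcomm.symm ▸ hDn))

/-- The core is semiregular away from the fixed point. -/
theorem semiregular (a : Ω) {f : G} (hf : f ∈ core (G := G) p a) (hf1 : f ≠ 1) {w : Ω} (hw : w ≠ a) :
    f • w ≠ w := by
  classical
  haveI := h.prim.toIsPretransitive
  intro hfw
  let S : Ω → Set Ω := fun b => {y : Ω | core (G := G) p b ≤ stabilizer G y}
  have hFne : ∀ b : Ω, ∃ g ∈ core (G := G) p b, g ≠ 1 := by
    intro b
    obtain ⟨g, rfl⟩ := exists_smul_eq G a b
    exact ⟨g * f * g⁻¹, (core_smul p g a f).2 hf, fun e => hf1 (by simpa using e)⟩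
  have hfix : ∀ (b y : Ω) x, x ∈ core (G := G) p b → x ≠ 1 → (x • y = y ↔ y ∈ S b) := by
    intro b y x hx hx1
    refine ⟨fun e => ?_, fun hy => mem_stabilizer_iff.1 (hy hx)⟩
    by_contra hy
    have := (moved_pair p h hy).1
    exact hx1 ((Subgroup.eq_bot_iff_forall _).1 this x ⟨hx, mem_stabilizer_iff.2 e⟩)
  have hequiv : ∀ (g : G) (b : Ω), g • S b = S (g • b) := by
    intro g b
    ext y
    rw [Set.mem_smul_set_iff_inv_smul_mem]
    constructor
    · intro hy x hx
      have hx' : g⁻¹ * x * g ∈ core (G := G) p b := by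
        rw [← core_smul p g b]; simpa [mul_assoc] using hx
      have := mem_stabilizer_iff.1 (hy hx')
      rw [mul_smul, mul_smul, smul_inv_smul, smul_left_cancel_iff] at this
      exact mem_stabilizer_iff.2 this
    · intro hy x hx
      have := mem_stabilizer_iff.1 (hy ((core_smul p g b x).2 hx))
      rw [mul_smul, mul_smul, smul_eq_iff_eq_inv_smul] at this
      exact mem_stabilizer_iff.2 this
  have hsetb : ∀ b : Ω, ∀ g ∈ stabilizer G b, g • S b = S b := fun b g hg => by
    rw [hequiv, mem_stabilizer_iff.1 hg]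
  have huniv : ∀ b : Ω, S b ≠ Set.univ := by
    intro b e
    obtain ⟨g, hg, hg1⟩ := hFne b
    exact hg1 (eq_one_of_fix (Ω := Ω) fun y => mem_stabilizer_iff.1 ((e ▸ Set.mem_univ y : y ∈ S b) hg))
  have hsymm : ∀ b c : Ω, c ∈ S b → b ∈ S c := by
    intro b c hc
    by_contra hb
    exact (moved_pair p h hb).2 hc
  -- neighbours have disjoint commuting cores
  have hdisj : ∀ b c : Ω, b ≠ c → c ∈ S b → core (G := G) p b ⊓ core (G := G) p c = ⊥ := by
    intro b c hbc hc
    refine (Subgroup.eq_bot_iff_forall _).2 fun x hx => ?_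
    by_contra hx1
    have e : S b = S c := Set.ext fun y => by rw [← hfix b y x hx.1 hx1, hfix c y x hx.2 hx1]
    exact huniv b (set_univ h hbc (S b) ⟨b, core_le p b⟩ (hsetb b) (fun g hg => by rw [e]; exact hsetb c g hg))
  have hcommute : ∀ b c : Ω, b ≠ c → c ∈ S b → ∀ x ∈ core (G := G) p b, ∀ y ∈ core (G := G) p c, x * y = y * x := by
    intro b c hbc hc x hx y hy
    have h1 : x * y * x⁻¹ ∈ core (G := G) p c :=
      (Subgroup.mem_normalizer_iff.1 (le_normalizer_core p c (hc hx)) y).1 hy
    have h2 : y * x⁻¹ * y⁻¹ ∈ core (G := G) p b :=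
      (Subgroup.mem_normalizer_iff.1 (le_normalizer_core p b (hsymm b c hc hy)) _).1 (inv_mem hx)
    have h3 : x * y * x⁻¹ * y⁻¹ ∈ core (G := G) p b ⊓ core (G := G) p c :=
      Subgroup.mem_inf.2 ⟨by simpa [mul_assoc] using mul_mem hx h2, mul_mem h1 (inv_mem hy)⟩
    rw [hdisj b c hbc hc, Subgroup.mem_bot] at h3
    exact mul_inv_eq_iff_eq_mul.1 (mul_inv_eq_one.1 h3)
  have hwa : w ∈ S a := (hfix a w f hf hf1).1 hfw
  -- a neighbour of a neighbour outside `S a`
  obtain ⟨x, hxa, hxne, z, hzx, hza⟩ : ∃ x, x ∈ S a ∧ x ≠ a ∧ ∃ z, z ∈ S x ∧ z ∉ S a := by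
    by_contra hc
    push Not at hc
    have hsub : S w ⊆ S a := fun z hz => hc w hwa hw z hz
    obtain ⟨g, hg⟩ := exists_smul_eq G a w
    have he : S w = S a := by
      refine Set.eq_of_subset_of_ncard_le hsub ?_ (Set.toFinite _)
      rw [← hg, ← hequiv, ← Set.image_smul, Set.ncard_image_of_injective _ (MulAction.injective g)]
    exact huniv a (set_univ h (Ne.symm hw) (S a) ⟨a, core_le p a⟩ (hsetb a)
      (fun g hg => by rw [← he]; exact hsetb w g hg))
  have hxz : x ≠ z := fun e => hza (e ▸ hxa)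
  have haz : a ≠ z := fun e => hza (e ▸ core_le p a)
  set F := core (G := G) p a
  set E := core (G := G) p x
  set W := core (G := G) p z
  set K := stabilizer G a ⊓ stabilizer G z
  have hza' : ¬ W ≤ stabilizer G a := fun e => hza (hsymm z a e)
  set M := K ⊓ Subgroup.centralizer (F : Set G) ⊓ Subgroup.centralizer (W : Set G) with hMdef
  have hEM : E ≤ M := by
    intro e he
    refine Subgroup.mem_inf.2 ⟨Subgroup.mem_inf.2 ⟨Subgroup.mem_inf.2
      ⟨hsymm a x hxa he, hzx he⟩, ?_⟩, ?_⟩
    · rw [Subgroup.mem_centralizer_iff]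
      exact fun g hg => hcommute a x (Ne.symm hxne) hxa g hg e he
    · rw [Subgroup.mem_centralizer_iff]
      exact fun g hg => (hcommute x z hxz hzx e he g hg).symm
  have hMK : K ≤ Subgroup.normalizer (M : Set G) := by
    have hmem : ∀ k : G, k ∈ K → ∀ m, m ∈ M → k * m * k⁻¹ ∈ M := by
      intro k hk m hm
      obtain ⟨⟨hmK, hmF⟩, hmW⟩ := hm
      have cen : ∀ (A : Subgroup G), K ≤ Subgroup.normalizer (A : Set G) → m ∈ Subgroup.centralizer (A : Set G) →
          k * m * k⁻¹ ∈ Subgroup.centralizer (A : Set G) := by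
        intro A hA hm'
        rw [Subgroup.mem_centralizer_iff] at hm' ⊢
        intro g hg
        have hg' : k⁻¹ * g * k⁻¹⁻¹ ∈ A := (Subgroup.mem_normalizer_iff.1 (hA (inv_mem hk)) g).1 hg
        have e := hm' _ hg'
        rw [inv_inv] at e
        calc g * (k * m * k⁻¹) = k * ((k⁻¹ * g * k) * m) * k⁻¹ := by group
          _ = k * (m * (k⁻¹ * g * k)) * k⁻¹ := by rw [e]
          _ = k * m * k⁻¹ * g := by group
      exact Subgroup.mem_inf.2 ⟨Subgroup.mem_inf.2 ⟨mul_mem (mul_mem hk hmK) (inv_mem hk),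
        cen F (inf_le_left.trans (le_normalizer_core p a)) hmF⟩,
        cen W (inf_le_right.trans (le_normalizer_core p z)) hmW⟩
    intro k hk
    rw [Subgroup.mem_normalizer_iff]
    intro m
    refine ⟨hmem k hk m, fun hm => ?_⟩
    simpa [mul_assoc] using hmem k⁻¹ (inv_mem hk) _ hm
  have hcen : ∀ (A : Subgroup G), M ≤ Subgroup.centralizer (A : Set G) → A ≤ Subgroup.normalizer (M : Set G) := by
    intro A hA g hg
    refine (Subgroup.centralizer_le_normalizer (M : Set G)) ?_
    rw [Subgroup.mem_centralizer_iff]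
    exact fun m hm => (Subgroup.mem_centralizer_iff.1 (hA hm) g hg).symm
  have hbot := normal_bot h haz M (inf_le_left.trans (inf_le_left.trans inf_le_left))
    (normalizer_factor p h hza M (hcen F (inf_le_left.trans inf_le_right)) hMK)
    (normalizer_factor p h hza' M (hcen W inf_le_right) ((inf_comm _ _).le.trans hMK))
  obtain ⟨e, he, he1⟩ := hFne x
  exact he1 ((Subgroup.eq_bot_iff_forall _).1 hbot e (hEM he))

theorem orbit_card (a : Ω) (hne : core (G := G) p a ≠ ⊥) {w : Ω} (hw : w ≠ a) :
    Nat.card (orbit (stabilizer G a) w) = Nat.card (core (G := G) p a) := by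
  obtain ⟨⟨f, hf⟩, hf1⟩ := Subgroup.ne_bot_iff_exists_ne_one.1 hne
  rcases fix_or_transitive h a w _ (core_le p a) (le_normalizer_core p a) with hx | ht
  · exact absurd (hx w (mem_orbit_self w) f hf) (semiregular p h a hf (fun e => hf1 (Subtype.ext e)) hw)
  · refine (Nat.card_congr (Equiv.ofBijective
      (fun x : core (G := G) p a => (⟨(x : G) • w, ⟨x, core_le p a x.2⟩, rfl⟩ : orbit (stabilizer G a) w))
      ⟨fun x y e => ?_, fun o => ?_⟩)).symm
    · by_contra hxy
      have hne' : (x : G)⁻¹ * y ≠ 1 := fun e' => hxy (Subtype.ext (inv_mul_eq_one.1 e'))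
      refine semiregular p h a (mul_mem (inv_mem x.2) y.2) hne' hw ?_
      have e' : (x : G) • w = (y : G) • w := congrArg Subtype.val e
      rw [mul_smul, ← e', inv_smul_smul]
    · obtain ⟨f, hf, hfo⟩ := ht o.1 o.2
      exact ⟨⟨f, hf⟩, Subtype.ext hfo⟩

end Cfsg.Agent.Lie.ExtPrim
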