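import Cfsg.Agent.Lib.Lie.ExtremelyPrimitive.Fitting
import Mathlib

/-!
The Fitting subgroup of the point stabiliser of an extremely primitive group.
-/

set_option autoImplicit false
open scoped Pointwise
open MulAction

namespace Cfsg.Agent.Lie.ExtPrim

variable {G Ω : Type*} [Group G] [Finite G] [MulAction G Ω] [FaithfulSMul G Ω] [Finite Ω]
  (h : Hyp G Ω) (a : Ω)

include h

theorem fitting_eq : ∃ p : ℕ, p.Prime ∧
    (Cfsg.fittingSubgroup (stabilizer G a)).map (stabilizer G a).subtype = core (G := G) p a := by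
  classical
  obtain ⟨w, g, hg, hgw⟩ := exists_moved h a
  have hwa : w ≠ a := fun e => hgw (e ▸ mem_stabilizer_iff.1 hg)
  by_cases hex : ∃ q : Nat.Primes, core (G := G) (q : ℕ) a ≠ ⊥
  · obtain ⟨q, hq⟩ := hex
    haveI := Fact.mk q.2
    refine ⟨q, q.2, le_antisymm ?_ ?_⟩
    · rw [Solv.fitting_eq_iSup_pCore, Subgroup.map_iSup]
      refine iSup_le fun r => ?_
      by_cases hr : core (G := G) (r : ℕ) a = ⊥
      · exact hr.le.trans bot_le
      · haveI := Fact.mk r.2
        have h1 := orbit_card (q : ℕ) h a hq hwa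
        have h2 := orbit_card (r : ℕ) h a hr hwa
        obtain ⟨i, hi⟩ := IsPGroup.iff_card.1 (core_isPGroup (G := G) (q : ℕ) a)
        obtain ⟨j, hj⟩ := IsPGroup.iff_card.1 (core_isPGroup (G := G) (r : ℕ) a)
        have hi0 : i ≠ 0 := fun e => hq (Subgroup.card_eq_one.1 (by rw [hi, e, pow_zero]))
        have hdvd : (q : ℕ) ∣ (r : ℕ) ^ j := by rw [← hj, ← h2, h1, hi]; exact dvd_pow_self _ hi0
        have : q = r := Subtype.ext ((Nat.prime_dvd_prime_iff_eq q.2 r.2).1 (q.2.dvd_of_dvd_pow hdvd))
        rw [this]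
        exact le_rfl
    · exact Subgroup.map_mono (Solv.pCore_le_fitting _)
  · push Not at hex
    haveI := Fact.mk Nat.prime_two
    refine ⟨2, Nat.prime_two, le_antisymm ?_ (Subgroup.map_mono (Solv.pCore_le_fitting _))⟩
    rw [Solv.fitting_eq_iSup_pCore, Subgroup.map_iSup]
    exact iSup_le fun r => (hex r).le.trans bot_le

theorem fitting_comm : ∀ x ∈ Cfsg.fittingSubgroup (stabilizer G a), ∀ y ∈ Cfsg.fittingSubgroup (stabilizer G a),
    x * y = y * x := by
  obtain ⟨p, hp, he⟩ := fitting_eq h a
  haveI := Fact.mk hp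
  intro x hx y hy
  exact Subtype.ext (core_comm p h (he ▸ Subgroup.mem_map_of_mem _ hx) (he ▸ Subgroup.mem_map_of_mem _ hy))

theorem centralizer_fitting (hne : Cfsg.fittingSubgroup (stabilizer G a) ≠ ⊥) :
    Subgroup.centralizer (Cfsg.fittingSubgroup (stabilizer G a) : Set (stabilizer G a)) ≤
      Cfsg.fittingSubgroup (stabilizer G a) := by
  classical
  obtain ⟨p, hp, he⟩ := fitting_eq h a
  haveI := Fact.mk hp
  set H := stabilizer G a
  set F := Cfsg.fittingSubgroup H
  haveI : F.Normal := Solv.fittingSubgroup_normal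
  set C := Subgroup.centralizer (F : Set H)
  haveI : C.Normal := by rw [show C = Subgroup.centralizer (F : Set H) from rfl]; infer_instance
  refine Solv.normal_le_fitting ?_
  haveI : IsMulCommutative C := by
    refine ⟨⟨fun c d => Subtype.ext (Subtype.ext (eq_of_smul_eq_smul (α := Ω) fun (o : Ω) => ?_))⟩⟩
    show ((c.1.1 : G) * d.1.1) • o = (d.1.1 * c.1.1) • o
    by_cases ho : o = a
    · rw [ho, mem_stabilizer_iff.1 (mul_mem c.1.2 d.1.2), mem_stabilizer_iff.1 (mul_mem d.1.2 c.1.2)]
    rcases fix_or_transitive h a o (F.map H.subtype) (by rw [he]; exact core_le p a)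
      (by rw [he]; exact le_normalizer_core p a) with hf | ht
    · exfalso
      obtain ⟨⟨f, hf'⟩, hf1⟩ := Subgroup.ne_bot_iff_exists_ne_one.1 hne
      refine semiregular p h a (f := (f : G)) (he ▸ Subgroup.mem_map_of_mem _ hf') (fun e => hf1 ?_) ho
        (hf o (mem_orbit_self o) f (Subgroup.mem_map_of_mem _ hf'))
      exact Subtype.ext (Subtype.ext e)
    · have key : ∀ c : C, ∃ f ∈ F, (c.1.1 : G) • o = (f : G) • o := fun c => by
        obtain ⟨_, ⟨f, hf, rfl⟩, hfo⟩ := ht ((c.1.1 : G) • o) ⟨c.1, rfl⟩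
        exact ⟨f, hf, hfo.symm⟩
      obtain ⟨f, hf, hcf⟩ := key c
      obtain ⟨g, hg, hdg⟩ := key d
      have hcg : (c.1.1 : G) * g = g * c.1.1 :=
        congrArg Subtype.val (Subgroup.mem_centralizer_iff.1 c.2 g hg).symm
      have hdf : (d.1.1 : G) * f = f * d.1.1 :=
        congrArg Subtype.val (Subgroup.mem_centralizer_iff.1 d.2 f hf).symm
      have hfg : (f : G) * g = g * f := congrArg Subtype.val (fitting_comm h a f hf g hg)
      rw [mul_smul, hdg, ← mul_smul, hcg, mul_smul, hcf, mul_smul, hcf, ← mul_smul (d.1.1 : G), hdf,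
        mul_smul, hdg, ← mul_smul, ← mul_smul, hfg]
  letI : CommGroup C := { (inferInstance : Group C) with mul_comm := fun x y => IsMulCommutative.is_comm.comm x y }
  exact CommGroup.isNilpotent

theorem dvd_card_sub_one : Nat.card (Cfsg.fittingSubgroup (stabilizer G a)) ∣ Nat.card Ω - 1 := by
  classical
  obtain ⟨p, hp, he⟩ := fitting_eq h a
  haveI := Fact.mk hp
  have hcard : Nat.card (Cfsg.fittingSubgroup (stabilizer G a)) = Nat.card (core (G := G) p a) := by
    rw [← he]; exact (Nat.card_congr (Subgroup.equivMapOfInjective _ _ (Subgroup.subtype_injective _)).toEquiv)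
  rw [hcard]
  by_cases hne : core (G := G) p a = ⊥
  · rw [hne, Subgroup.card_bot]; exact one_dvd _
  haveI := Fintype.ofFinite Ω
  haveI := Fintype.ofFinite (orbitRel.Quotient (stabilizer G a) Ω)
  have hsum : Nat.card Ω = ∑ o : orbitRel.Quotient (stabilizer G a) Ω, Nat.card (orbitRel.Quotient.orbit o) := by
    rw [Nat.card_congr (selfEquivSigmaOrbits' (stabilizer G a) Ω), Nat.card_sigma]
  let o0 : orbitRel.Quotient (stabilizer G a) Ω := Quotient.mk'' a
  have h0 : Nat.card (orbitRel.Quotient.orbit o0) = 1 := by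
    rw [Nat.card_congr (Equiv.setCongr (show (orbitRel.Quotient.orbit o0 : Set Ω) = {a} by
      rw [orbitRel.Quotient.orbit_mk]
      ext x
      exact ⟨fun ⟨⟨g, hg⟩, hx⟩ => hx ▸ (show g • a = a from hg), fun hx => (Set.mem_singleton_iff.1 hx).symm ▸ mem_orbit_self a⟩))]
    simp
  rw [hsum, ← Finset.add_sum_erase _ _ (Finset.mem_univ o0), h0, Nat.add_sub_cancel_left]
  refine Finset.dvd_sum fun o ho => ?_
  induction o using Quotient.inductionOn' with
  | h x =>
    have hx : x ≠ a := fun e => (Finset.mem_erase.1 ho).1 (by rw [e])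
    rw [orbitRel.Quotient.orbit_mk]
    exact (orbit_card p h a hne hx).symm ▸ dvd_rfl

omit h [Finite Ω] [FaithfulSMul G Ω] in
/-- An action on an elementary abelian `p`-group as a linear representation. -/
theorem exists_linear {X : Type*} [Group X] {p : ℕ} [Fact p.Prime] (F : Subgroup X) [Finite F] [hFn : F.Normal]
    (hc : ∀ x ∈ F, ∀ y ∈ F, x * y = y * x) (hp : ∀ x ∈ F, x ^ p = 1) {e : ℕ} (he : Nat.card F = p ^ e) :
    ∃ φ : X →* GL (Fin e) (ZMod p), φ.ker = Subgroup.centralizer (F : Set X) := by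
  classical
  letI : CommGroup F := { (inferInstance : Group F) with mul_comm := fun x y => Subtype.ext (hc x x.2 y y.2) }
  have hv : ∀ v : Additive F, p • v = 0 := fun v => by
    have : (Additive.toMul v : F) ^ p = 1 := Subtype.ext (hp _ (Additive.toMul v : F).2)
    exact Additive.toMul.injective this
  letI : Module (ZMod p) (Additive F) := AddCommGroup.zmodModule (n := p) hv
  haveI : Module.Finite (ZMod p) (Additive F) := Module.Finite.of_finite (R := ZMod p) (M := Additive F)
  have hdim : Module.finrank (ZMod p) (Additive F) = e := by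
    have h1 := Module.natCard_eq_pow_finrank (K := ZMod p) (V := Additive F)
    rw [Nat.card_zmod, show Nat.card (Additive F) = Nat.card F from rfl, he] at h1
    exact (Nat.pow_right_injective (Fact.out : p.Prime).two_le h1).symm
  let b := Module.finBasisOfFinrankEq (ZMod p) (Additive F) hdim
  let lin : X → (Additive F →ₗ[ZMod p] Additive F) := fun g =>
    AddMonoidHom.toZModLinearMap p (MonoidHom.toAdditive (MulAut.conjNormal (H := F) g : F ≃* F).toMonoidHom : Additive F →+ Additive F)
  have hlin : ∀ (g : X) (v : F), lin g (Additive.ofMul v) = Additive.ofMul (MulAut.conjNormal (H := F) g v) := fun g v => rfl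
  let ψ : X →* Module.End (ZMod p) (Additive F) :=
    { toFun := lin
      map_one' := LinearMap.ext fun v => by
        rw [← ofMul_toMul v, hlin, map_one]
        rfl
      map_mul' := fun g g' => LinearMap.ext fun v => by
        rw [← ofMul_toMul v, hlin, map_mul]
        rfl }
  refine ⟨((LinearMap.toMatrixAlgEquiv b).toMonoidHom.comp ψ).toHomUnits, ?_⟩
  ext g
  rw [MonoidHom.mem_ker, Units.ext_iff, Units.val_one, Subgroup.mem_centralizer_iff]
  show LinearMap.toMatrixAlgEquiv b (lin g) = 1 ↔ _
  rw [EmbeddingLike.map_eq_one_iff]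
  constructor
  · intro hg x hx
    have := congrArg (fun T : Module.End (ZMod p) (Additive F) => ((Additive.toMul (T (Additive.ofMul ⟨x, hx⟩)) : F) : X)) hg
    simp only [hlin, toMul_ofMul, MulAut.conjNormal_apply, Module.End.one_apply] at this
    exact (mul_inv_eq_iff_eq_mul.1 this).symm
  · intro hg
    refine LinearMap.ext fun v => ?_
    rw [← ofMul_toMul v, hlin, Module.End.one_apply]
    refine congrArg Additive.ofMul (Subtype.ext ?_)
    rw [MulAut.conjNormal_apply, mul_inv_eq_iff_eq_mul]
    exact (hg _ (Additive.toMul v : F).2).symm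

end Cfsg.Agent.Lie.ExtPrim
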