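import Mathlib

/-!
An irreducible element of prime order and the elements normalising it.
-/

set_option autoImplicit false

namespace Cfsg.Agent.Lie.ExtPrim

variable {p : ℕ} [Fact p.Prime] {V : Type*} [AddCommGroup V] [Module (ZMod p) V] [Finite V] [Nontrivial V]

theorem irreducible_element {d q : ℕ} (hV : Nat.card V = p ^ d) (f : Module.End (ZMod p) V) (hfq : f ^ q = 1)
    (hirr : ∀ W : Submodule (ZMod p) V, (∀ w ∈ W, f w ∈ W) → W = ⊥ ∨ W = ⊤) :
    (∀ i, 0 < i → i < d → ¬ q ∣ p ^ i - 1) ∧
      ∀ (k : (Module.End (ZMod p) V)ˣ) (r : ℕ), (k : Module.End (ZMod p) V) * f * (k⁻¹ : (Module.End (ZMod p) V)ˣ) = f ^ r →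
        ((k ^ d : (Module.End (ZMod p) V)ˣ) : Module.End (ZMod p) V) * f = f * ((k ^ d : (Module.End (ZMod p) V)ˣ) : Module.End (ZMod p) V) := by
  classical
  set S := Algebra.adjoin (ZMod p) ({f} : Set (Module.End (ZMod p) V)) with hS
  have hfS : f ∈ S := Algebra.self_mem_adjoin_singleton _ f
  obtain ⟨v, hv⟩ := exists_ne (0 : V)
  -- evaluation at `v` identifies the algebra with the space
  have hsurj : Function.Surjective (fun T : S => (T : Module.End (ZMod p) V) v) := by
    let W : Submodule (ZMod p) V :=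
      { carrier := {w | ∃ T ∈ S, T v = w}
        zero_mem' := ⟨0, zero_mem _, by simp⟩
        add_mem' := by
          rintro _ _ ⟨A, hA, rfl⟩ ⟨B, hB, rfl⟩
          exact ⟨A + B, add_mem hA hB, by simp⟩
        smul_mem' := by
          rintro c _ ⟨A, hA, rfl⟩
          exact ⟨c • A, Subalgebra.smul_mem _ hA c, by simp⟩ }
    rcases hirr W (by rintro _ ⟨A, hA, rfl⟩; exact ⟨f * A, mul_mem hfS hA, rfl⟩) with h | h
    · exfalso
      have : v ∈ W := ⟨1, one_mem _, rfl⟩
      rw [h, Submodule.mem_bot] at this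
      exact hv this
    · intro w
      obtain ⟨T, hT, hTw⟩ : w ∈ W := h ▸ Submodule.mem_top
      exact ⟨⟨T, hT⟩, hTw⟩
  have hcommS : ∀ A ∈ S, A * f = f * A := fun A hA =>
    ((Algebra.commute_of_mem_adjoin_singleton_of_commute hA (Commute.refl f))).eq.symm
  have hinj : Function.Injective (fun T : S => (T : Module.End (ZMod p) V) v) := by
    intro A B e
    refine Subtype.ext (LinearMap.ext fun w => ?_)
    obtain ⟨C, rfl⟩ := hsurj w
    have hc : ∀ A B : S, (A : Module.End (ZMod p) V) * B = B * A := fun A B =>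
      (Algebra.commute_of_mem_adjoin_singleton_of_commute B.2 (hcommS A A.2 : Commute (A : Module.End (ZMod p) V) f)).eq
    show (A : Module.End (ZMod p) V) ((C : Module.End (ZMod p) V) v) = (B : Module.End (ZMod p) V) ((C : Module.End (ZMod p) V) v)
    rw [← Module.End.mul_apply, ← Module.End.mul_apply, hc A C, hc B C, Module.End.mul_apply, Module.End.mul_apply]
    exact congrArg _ e
  haveI : Finite S := Finite.of_injective _ hinj
  have hcardS : Nat.card S = p ^ d := (Nat.card_congr (Equiv.ofBijective _ ⟨hinj, hsurj⟩)).trans hV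
  haveI : Nontrivial S := Finite.one_lt_card_iff_nontrivial.1 (by
    rw [Nat.card_congr (Equiv.ofBijective _ ⟨hinj, hsurj⟩)]; exact Finite.one_lt_card)
  have hdom : ∀ A : S, A ≠ 0 → ∀ w, (A : Module.End (ZMod p) V) w = 0 → w = 0 := by
    intro A hA
    rcases hirr (LinearMap.ker (A : Module.End (ZMod p) V)) (fun w hw => by
      rw [LinearMap.mem_ker] at hw ⊢
      rw [← Module.End.mul_apply, hcommS A A.2, Module.End.mul_apply, hw, map_zero]) with h | h
    · exact fun w hw => (Submodule.eq_bot_iff _).1 h w hw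
    · exact absurd (Subtype.ext (LinearMap.ker_eq_top.1 h)) hA
  letI : CommRing S :=
    { (inferInstance : Ring S) with
      mul_comm := fun A B => Subtype.ext
        (Algebra.commute_of_mem_adjoin_singleton_of_commute B.2 (hcommS A A.2 : Commute (A : Module.End (ZMod p) V) f)).eq }
  haveI : NoZeroDivisors S := ⟨fun {A B} h => by
    by_contra hne
    push Not at hne
    refine hne.2 (Subtype.ext (LinearMap.ext fun w => ?_))
    have := congrArg (fun T : S => (T : Module.End (ZMod p) V) w) h
    exact hdom A hne.1 _ this⟩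
  haveI : IsDomain S := NoZeroDivisors.to_isDomain S
  letI : Field S := (Finite.isDomain_to_isField S).toField
  haveI : Fintype S := Fintype.ofFinite _
  set fS : S := ⟨f, hfS⟩ with hfSdef
  have hfSq : fS ^ q = 1 := Subtype.ext hfq
  constructor
  · intro i hi hid hdvd
    have hfix : fS ^ p ^ i = fS := by
      obtain ⟨c, hc⟩ := hdvd
      have hpi : p ^ i = q * c + 1 := by
        have := Nat.one_le_pow i p (Fact.out : p.Prime).pos
        omega
      rw [hpi, pow_succ, pow_mul, hfSq, one_pow, one_mul]
    haveI : CharP S p := charP_of_injective_algebraMap (algebraMap (ZMod p) S).injective p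
    have hall : ∀ x : S, x ^ p ^ i = x := by
      intro x
      obtain ⟨x, hx⟩ := x
      induction hx using Algebra.adjoin_induction with
      | mem y hy =>
        obtain rfl : y = f := hy
        exact hfix
      | algebraMap c =>
        show (algebraMap (ZMod p) S c) ^ p ^ i = algebraMap (ZMod p) S c
        rw [← map_pow, ZMod.pow_card_pow]
      | add a b ha hb iha ihb =>
        show ((⟨a, ha⟩ : S) + ⟨b, hb⟩) ^ p ^ i = ⟨a, ha⟩ + ⟨b, hb⟩
        rw [add_pow_char_pow, iha, ihb]
      | mul a b ha hb iha ihb =>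
        show ((⟨a, ha⟩ : S) * ⟨b, hb⟩) ^ p ^ i = ⟨a, ha⟩ * ⟨b, hb⟩
        rw [mul_pow, iha, ihb]
    have hgt : 1 < p ^ i := Nat.one_lt_pow hi.ne' (Fact.out : p.Prime).one_lt
    have hle : Fintype.card S ≤ p ^ i := by
      have hne : (Polynomial.X ^ (p ^ i) - Polynomial.X : Polynomial S) ≠ 0 :=
        FiniteField.X_pow_card_sub_X_ne_zero S hgt
      calc Fintype.card S = (Finset.univ : Finset S).card := rfl
        _ ≤ (Polynomial.X ^ (p ^ i) - Polynomial.X : Polynomial S).natDegree :=
            Polynomial.card_le_degree_of_subset_roots (fun x _ => by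
              rw [Polynomial.mem_roots hne]; simp [hall x])
        _ = p ^ i := FiniteField.X_pow_card_sub_X_natDegree_eq S hgt
    rw [← Nat.card_eq_fintype_card, hcardS] at hle
    exact absurd hle (not_le.2 (Nat.pow_lt_pow_right (Fact.out : p.Prime).one_lt hid))
  · intro k r hk
    have hmap : ∀ T ∈ S, (k : Module.End (ZMod p) V) * T * (k⁻¹ : (Module.End (ZMod p) V)ˣ) ∈ S := by
      intro T hT
      induction hT using Algebra.adjoin_induction with
      | mem y hy =>
        obtain rfl : y = f := hy
        rw [hk]; exact pow_mem hfS r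
      | algebraMap c =>
        rw [← Algebra.commutes, mul_assoc, Units.mul_inv, mul_one]
        exact Subalgebra.algebraMap_mem _ c
      | add a b _ _ iha ihb => rw [mul_add, add_mul]; exact add_mem iha ihb
      | mul a b _ _ iha ihb =>
        have : (k : Module.End (ZMod p) V) * (a * b) * (k⁻¹ : (Module.End (ZMod p) V)ˣ) =
            ((k : Module.End (ZMod p) V) * a * (k⁻¹ : (Module.End (ZMod p) V)ˣ)) *
            ((k : Module.End (ZMod p) V) * b * (k⁻¹ : (Module.End (ZMod p) V)ˣ)) := by
          simp [mul_assoc]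
        rw [this]; exact mul_mem iha ihb
    let σ₀ : S →ₐ[ZMod p] S :=
      { toFun := fun T => ⟨(k : Module.End (ZMod p) V) * T.1 * (k⁻¹ : (Module.End (ZMod p) V)ˣ), hmap T.1 T.2⟩
        map_one' := Subtype.ext (by simp)
        map_mul' := fun A B => Subtype.ext (by simp [mul_assoc])
        map_zero' := Subtype.ext (by simp)
        map_add' := fun A B => Subtype.ext (by simp [mul_add, add_mul])
        commutes' := fun c => Subtype.ext (by
          show (k : Module.End (ZMod p) V) * algebraMap (ZMod p) _ c * (k⁻¹ : (Module.End (ZMod p) V)ˣ) = algebraMap (ZMod p) _ c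
          rw [← Algebra.commutes, mul_assoc, Units.mul_inv, mul_one]) }
    have hbij : Function.Bijective σ₀ := (Finite.injective_iff_bijective).1 σ₀.toRingHom.injective
    let σ : S ≃ₐ[ZMod p] S := AlgEquiv.ofBijective σ₀ hbij
    have hσ : ∀ n : ℕ, ((σ ^ n) fS : S).1 =
        ((k ^ n : (Module.End (ZMod p) V)ˣ) : Module.End (ZMod p) V) * f * ((k ^ n)⁻¹ : (Module.End (ZMod p) V)ˣ) := by
      intro n
      induction n with
      | zero => simp [hfSdef]
      | succ n ih =>
        rw [pow_succ', AlgEquiv.mul_apply]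
        show (k : Module.End (ZMod p) V) * ((σ ^ n) fS).1 * (k⁻¹ : (Module.End (ZMod p) V)ˣ) = _
        rw [ih, pow_succ', mul_inv_rev, Units.val_mul, Units.val_mul]
        simp [mul_assoc]
    have hfin : Module.finrank (ZMod p) S = d := by
      have h1 := Module.natCard_eq_pow_finrank (K := ZMod p) (V := S)
      rw [Nat.card_zmod, hcardS] at h1
      exact (Nat.pow_right_injective (Fact.out : p.Prime).two_le h1).symm
    have hcardAut : Nat.card (S ≃ₐ[ZMod p] S) = d := by
      rw [IsGalois.card_aut_eq_finrank, hfin]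
    have hσd : σ ^ d = 1 := by rw [← hcardAut]; exact pow_card_eq_one'
    have := hσ d
    rw [hσd] at this
    have e : f = ((k ^ d : (Module.End (ZMod p) V)ˣ) : Module.End (ZMod p) V) * f * ((k ^ d)⁻¹ : (Module.End (ZMod p) V)ˣ) := this
    calc ((k ^ d : (Module.End (ZMod p) V)ˣ) : Module.End (ZMod p) V) * f
        = (((k ^ d : (Module.End (ZMod p) V)ˣ) : Module.End (ZMod p) V) * f * ((k ^ d)⁻¹ : (Module.End (ZMod p) V)ˣ)) *
            ((k ^ d : (Module.End (ZMod p) V)ˣ) : Module.End (ZMod p) V) := by
          rw [mul_assoc _ (((k ^ d)⁻¹ : (Module.End (ZMod p) V)ˣ) : Module.End (ZMod p) V), Units.inv_mul, mul_one]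
      _ = f * _ := by rw [← e]

end Cfsg.Agent.Lie.ExtPrim
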