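import Cfsg.Agent.Lib.Lie.ExtremelyPrimitive.Main
import Cfsg.Agent.Lib.Lie.ExtremelyPrimitive.Semilinear
import Cfsg.Agent.Lib.Char.MultiplicativeCoprime

/-!
Soluble extremely primitive groups.
-/

set_option autoImplicit false
open scoped Pointwise
open MulAction

namespace Cfsg.Agent.Lie.ExtPrim

universe u v
variable {G : Type u} {Ω : Type v} [Group G] [Finite G] [MulAction G Ω] [FaithfulSMul G Ω] [Finite Ω]
  (h : Hyp G Ω) (a : Ω)

include h

theorem other_point : ∃ w, w ≠ a := by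
  obtain ⟨w, g, hg, hgw⟩ := exists_moved h a
  exact ⟨w, fun e => hgw (e ▸ mem_stabilizer_iff.1 hg)⟩

theorem exists_regular_normal [Group.IsSolvable G] {p d : ℕ} (hp : p.Prime) (hcard : Nat.card Ω = p ^ d) :
    ∃ V : Subgroup G, V.Normal ∧ (∀ x ∈ V, ∀ y ∈ V, x * y = y * x) ∧ (∀ x ∈ V, x ^ p = 1) ∧
      (∀ o : Ω, ∃ x ∈ V, x • a = o) ∧ (∀ x ∈ V, ∀ o : Ω, x • o = o → x = 1) := by
  classical
  haveI := h.prim
  haveI := h.prim.toIsPretransitive
  obtain ⟨w, hw⟩ := other_point h a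
  haveI : Nontrivial G := by
    obtain ⟨g, rfl⟩ := exists_smul_eq G a w
    exact ⟨g, 1, fun e => hw (by rw [e, one_smul])⟩
  obtain ⟨V, hV, hne, hmin⟩ := Solv.exists_minimal_normal (G := G)
  haveI := hV
  obtain ⟨hab, r, hr, hexp, hrp⟩ := Solv.minimal_normal_elementaryAbelian V inferInstance hne hmin
  haveI := Fact.mk hr
  have htr : ∀ o : Ω, ∃ x ∈ V, x • a = o := by
    rcases (IsPreprimitive.isTrivialBlock_of_isBlock (IsBlock.orbit_of_normal (N := V) a)) with hs | hu
    · exfalso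
      refine hne (normal_stab_bot h a V (fun x hx => ?_) hV)
      exact mem_stabilizer_iff.2 (hs (mem_orbit a (⟨x, hx⟩ : V)) (mem_orbit_self a))
    · intro o
      obtain ⟨x, hx⟩ : o ∈ orbit V a := hu ▸ Set.mem_univ o
      exact ⟨x.1, x.2, hx⟩
  have hc : ∀ x ∈ V, ∀ y ∈ V, x * y = y * x := fun x hx y hy =>
    congrArg Subtype.val (hab.is_comm.comm ⟨x, hx⟩ ⟨y, hy⟩)
  have hreg : ∀ x ∈ V, ∀ o : Ω, x • o = o → x = 1 := by
    intro x hx o ho
    refine eq_one_of_fix (Ω := Ω) fun o' => ?_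
    obtain ⟨y, hy, rfl⟩ := htr o
    obtain ⟨z, hz, rfl⟩ := htr o'
    have hya : x • a = a := by
      rw [← mul_smul, hc x hx y hy, mul_smul, smul_left_cancel_iff] at ho
      exact ho
    rw [← mul_smul, hc x hx z hz, mul_smul, hya]
  have hVcard : Nat.card V = p ^ d := by
    rw [← hcard]
    refine Nat.card_congr (Equiv.ofBijective (fun x : V => (x : G) • a) ⟨fun x y e => ?_, fun o => ?_⟩)
    · have := hreg _ (mul_mem (inv_mem x.2) y.2) a (by rw [mul_smul, show (y : G) • a = (x : G) • a from e.symm, inv_smul_smul])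
      exact Subtype.ext (inv_mul_eq_one.1 this)
    · obtain ⟨x, hx, hxo⟩ := htr o
      exact ⟨⟨x, hx⟩, hxo⟩
  have hrp' : r = p := by
    obtain ⟨k, hk⟩ := IsPGroup.iff_card.1 hrp
    have hk0 : k ≠ 0 := fun e => hne (Subgroup.card_eq_one.1 (by rw [hk, e, pow_zero]))
    have : r ∣ p ^ d := hVcard ▸ hk ▸ dvd_pow_self r hk0
    exact (Nat.prime_dvd_prime_iff_eq hr hp).1 (hr.dvd_of_dvd_pow this)
  exact ⟨V, hV, hc, fun x hx => hrp' ▸ hexp x hx, htr, hreg⟩

/-- A subgroup of the stabiliser which is regular on each other suborbit. -/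
theorem exists_regular_core [Group.IsSolvable G] :
    ∃ (r e : ℕ) (F : Subgroup G), r.Prime ∧ F ≤ stabilizer G a ∧ F ≠ ⊥ ∧
      stabilizer G a ≤ Subgroup.normalizer (F : Set G) ∧ Nat.card F = r ^ e ∧
      (∀ x ∈ F, ∀ y ∈ F, x * y = y * x) ∧ (∀ x ∈ F, x ^ r = 1) ∧
      (∀ f ∈ F, f ≠ 1 → ∀ w : Ω, w ≠ a → f • w ≠ w) ∧
      (∀ g ∈ stabilizer G a, (∀ f ∈ F, g * f = f * g) → g ∈ F) := by
  classical
  by_cases hHp : (Nat.card (stabilizer G a)).Prime
  · set H := stabilizer G a with hH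
    haveI := Fact.mk hHp
    have hcomm : ∀ x ∈ H, ∀ y ∈ H, x * y = y * x := fun x hx y hy => by
      haveI : IsCyclic H := isCyclic_of_prime_card (p := Nat.card H) rfl
      letI : CommGroup H := IsCyclic.commGroup
      exact congrArg Subtype.val (mul_comm (⟨x, hx⟩ : H) ⟨y, hy⟩)
    refine ⟨Nat.card H, 1, H, hHp, le_rfl, h.ne a, Subgroup.le_normalizer, (pow_one _).symm, hcomm,
      fun x hx => congrArg Subtype.val (pow_card_eq_one' : (⟨x, hx⟩ : H) ^ Nat.card H = 1), ?_, fun g hg _ => hg⟩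
    intro f hf hf1 w hw hfw
    have hle : H ≤ stabilizer G w := by
      intro x hx
      have htop := zpowers_eq_top_of_prime_card (g := (⟨f, hf⟩ : H)) rfl (fun e => hf1 (congrArg Subtype.val e))
      obtain ⟨i, hi⟩ := Subgroup.mem_zpowers_iff.1 (htop ▸ Subgroup.mem_top (⟨x, hx⟩ : H))
      have hxi : f ^ i = x := by simpa using congrArg Subtype.val hi
      rw [← hxi]
      exact zpow_mem (mem_stabilizer_iff.2 hfw) i
    haveI := h.prim.toIsPretransitive
    obtain ⟨g, hg⟩ := exists_smul_eq G a w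
    have hc := Nat.card_congr (stabilizerEquivStabilizer (g := g) (a := a) (b := w) hg.symm).toEquiv
    exact hw (eq_of_stab_eq h (Subgroup.eq_of_le_of_card_ge hle hc.symm.le)).symm
  · obtain ⟨r, hr, he⟩ := fitting_eq h a
    haveI := Fact.mk hr
    obtain ⟨e, hcard⟩ := IsPGroup.iff_card.1 (core_isPGroup (G := G) r a)
    haveI : Nontrivial (stabilizer G a) := (Subgroup.nontrivial_iff_ne_bot _).2 (h.ne a)
    have hFne : Cfsg.fittingSubgroup (stabilizer G a) ≠ ⊥ := Solv.fitting_ne_bot inferInstance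
    have hne : core (G := G) r a ≠ ⊥ := by
      rw [← he]
      exact fun e' => hFne ((Subgroup.map_eq_bot_iff_of_injective _ (Subgroup.subtype_injective _)).1 e')
    refine ⟨r, e, core r a, hr, core_le r a, hne, le_normalizer_core r a, hcard, (core_abelian r h a).1,
      (core_abelian r h a).2, fun f hf hf1 w hw => semiregular r h a hf hf1 hw, fun g hg hc => ?_⟩
    rw [← he]
    refine ⟨⟨g, hg⟩, centralizer_fitting h a hFne ?_, rfl⟩
    rw [Subgroup.mem_centralizer_iff]
    intro f hf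
    exact Subtype.ext (hc f (he ▸ Subgroup.mem_map_of_mem _ hf)).symm

theorem solvable_main [Group.IsSolvable G] {p d : ℕ} (hp : p.Prime) (hcard : Nat.card Ω = p ^ d) :
    ∃ q : ℕ, q.Prime ∧ (∀ ω : Ω, ω ≠ a → Nat.card (orbit (stabilizer G a) ω) = q) ∧
      q ∣ p ^ d - 1 ∧ (∀ i : ℕ, 0 < i → i < d → ¬ q ∣ p ^ i - 1) ∧
      ∃ T : Subgroup G, T ≤ stabilizer G a ∧ stabilizer G a ≤ Subgroup.normalizer (T : Set G) ∧ Nat.card T = q ∧
        (∃ t : G, stabilizer G a = T ⊔ Subgroup.zpowers t) ∧ Nat.card (stabilizer G a) ∣ q * d := by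
  classical
  haveI := h.prim.toIsPretransitive
  haveI := Fact.mk hp
  obtain ⟨w, hw⟩ := other_point h a
  obtain ⟨V, hVn, hVc, hVp, hVt, hVr⟩ := exists_regular_normal h a hp hcard
  obtain ⟨r, e, F, hr, hFH, hFne, hFn, hFcard, hFc, hFp, hFs, hFC⟩ := exists_regular_core h a
  haveI := hVn
  haveI := Fact.mk hr
  have horb : ∀ o : Ω, o ≠ a → ∀ g ∈ stabilizer G a, ∃ f ∈ F, f • o = g • o := by
    intro o ho g hg
    rcases fix_or_transitive h a o F hFH hFn with hf | ht
    · obtain ⟨f, hf'⟩ := Subgroup.ne_bot_iff_exists_ne_one.1 hFne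
      exact absurd (hf o (mem_orbit_self o) f f.2) (hFs f f.2 (fun e => hf' (Subtype.ext e)) o ho)
    · exact ht _ ⟨⟨g, hg⟩, rfl⟩
  have hocard : ∀ o : Ω, o ≠ a → Nat.card (orbit (stabilizer G a) o) = Nat.card F := by
    intro o ho
    refine (Nat.card_congr (Equiv.ofBijective
      (fun x : F => (⟨(x : G) • o, ⟨x, hFH x.2⟩, rfl⟩ : orbit (stabilizer G a) o)) ⟨fun x y e => ?_, fun u => ?_⟩)).symm
    · by_contra hxy
      have hne' : (x : G)⁻¹ * y ≠ 1 := fun e' => hxy (Subtype.ext (inv_mul_eq_one.1 e'))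
      refine hFs _ (mul_mem (inv_mem x.2) y.2) hne' o ho ?_
      have e' : (x : G) • o = (y : G) • o := congrArg Subtype.val e
      rw [mul_smul, ← e', inv_smul_smul]
    · obtain ⟨⟨g, hg⟩, hu⟩ := u.2
      obtain ⟨f, hf, hfo⟩ := horb o ho g hg
      exact ⟨⟨f, hf⟩, Subtype.ext (hfo.trans hu)⟩
  -- fixed-point-free action on `V`
  have hconj : ∀ g ∈ stabilizer G a, ∀ x : G, (g * x * g⁻¹) • a = g • x • a := fun g hg x => by
    rw [mul_smul, mul_smul, mem_stabilizer_iff.1 (inv_mem hg)]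
  have hVne : ∀ x ∈ V, x ≠ 1 → x • a ≠ a := fun x hx hx1 e => hx1 (hVr x hx a e)
  have hfpf : ∀ f ∈ F, f ≠ 1 → ∀ x ∈ V, f * x = x * f → x = 1 := by
    intro f hf hf1 x hx hfx
    by_contra hx1
    refine hFs f hf hf1 _ (hVne x hx hx1) ?_
    rw [← mul_smul, hfx, mul_smul, mem_stabilizer_iff.1 (hFH hf)]
  obtain ⟨x₀, hx₀, hx₀w⟩ := hVt w
  have hx₀1 : x₀ ≠ 1 := fun e => hw (by rw [← hx₀w, e, one_smul])
  have hVne' : V ≠ ⊥ := fun e => hx₀1 ((Subgroup.eq_bot_iff_forall _).1 e x₀ hx₀)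
  have hVcard : Nat.card V = p ^ d := by
    rw [← hcard]
    refine Nat.card_congr (Equiv.ofBijective (fun x : V => (x : G) • a) ⟨fun x y e => ?_, fun o => ?_⟩)
    · have := hVr _ (mul_mem (inv_mem x.2) y.2) a (by rw [mul_smul, show (y : G) • a = (x : G) • a from e.symm, inv_smul_smul])
      exact Subtype.ext (inv_mul_eq_one.1 this)
    · obtain ⟨x, hx, hxo⟩ := hVt o
      exact ⟨⟨x, hx⟩, hxo⟩
  have he0 : e ≠ 0 := fun e0 => hFne (Subgroup.card_eq_one.1 (by rw [hFcard, e0, pow_zero]))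
  have hdvd : r ^ e ∣ p ^ d - 1 := by
    haveI := Fintype.ofFinite Ω
    haveI := Fintype.ofFinite (orbitRel.Quotient (stabilizer G a) Ω)
    have hsum : Nat.card Ω = ∑ o : orbitRel.Quotient (stabilizer G a) Ω, Nat.card (orbitRel.Quotient.orbit o) := by
      rw [Nat.card_congr (selfEquivSigmaOrbits' (stabilizer G a) Ω), Nat.card_sigma]
    let o0 : orbitRel.Quotient (stabilizer G a) Ω := Quotient.mk'' a
    have h0 : Nat.card (orbitRel.Quotient.orbit o0) = 1 := by
      rw [Nat.card_congr (Equiv.setCongr (show (orbitRel.Quotient.orbit o0 : Set Ω) = {a} by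
        rw [orbitRel.Quotient.orbit_mk]
        ext x
        exact ⟨fun ⟨⟨g, hg⟩, hx⟩ => hx ▸ (show g • a = a from hg), fun hx => (Set.mem_singleton_iff.1 hx).symm ▸ mem_orbit_self a⟩))]
      simp
    rw [← hcard, ← hFcard, hsum, ← Finset.add_sum_erase _ _ (Finset.mem_univ o0), h0, Nat.add_sub_cancel_left]
    refine Finset.dvd_sum fun o ho => ?_
    induction o using Quotient.inductionOn' with
    | h x =>
      rw [orbitRel.Quotient.orbit_mk]
      exact (hocard x fun e' => (Finset.mem_erase.1 ho).1 (by rw [e'])).symm ▸ dvd_rfl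
  have hd0 : d ≠ 0 := by
    intro e0
    rw [e0, pow_zero] at hVcard
    exact hVne' (Subgroup.card_eq_one.1 hVcard)
  have hrp : r ≠ p := by
    rintro rfl
    have h1 : r ∣ r ^ d - 1 := (dvd_pow_self r he0).trans hdvd
    have h2 : r ∣ r ^ d := dvd_pow_self r hd0
    have h3 : r ∣ 1 := by
      have := Nat.dvd_sub h2 h1
      rwa [Nat.sub_sub_self (Nat.one_le_pow _ _ hr.pos)] at this
    exact hr.ne_one (Nat.dvd_one.1 h3)
  have he1 : e = 1 := by
    haveI := Fintype.ofFinite G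
    have hcyc : IsCyclic F := Char.MultCoprime.isCyclic_of_fpf (p := p) (D := V) ⟨⟨fun x y => Subtype.ext (hFc x x.2 y y.2)⟩⟩
      (IsPGroup.of_card hVcard) hVne' (by rw [Subgroup.normalizer_eq_top]; exact le_top)
      (by rw [hFcard, hVcard]; exact Nat.Coprime.pow _ _ ((Nat.coprime_primes hr hp).2 hrp)) hfpf
    obtain ⟨g, hg⟩ := hcyc.exists_generator
    have ho : orderOf g = Nat.card F := orderOf_eq_card_of_forall_mem_zpowers hg
    have hle : orderOf g ∣ r := orderOf_dvd_of_pow_eq_one (Subtype.ext (hFp g g.2))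
    rw [ho, hFcard] at hle
    have := Nat.le_of_dvd hr.pos hle
    by_contra hne
    have : r ^ 2 ≤ r ^ e := Nat.pow_le_pow_right hr.pos (by omega)
    have := hr.two_le
    nlinarith
  subst he1
  rw [pow_one] at hFcard hdvd
  refine ⟨r, hr, fun o ho => (hocard o ho).trans hFcard, hdvd, ?_⟩
  -- the linear representation
  have hv0 : ∀ v : Additive V, p • v = 0 := fun v => by
    have : (Additive.toMul v : V) ^ p = 1 := Subtype.ext (hVp _ (Additive.toMul v : V).2)
    exact Additive.toMul.injective this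
  letI : CommGroup V := { (inferInstance : Group V) with mul_comm := fun x y => Subtype.ext (hVc x x.2 y y.2) }
  letI : Module (ZMod p) (Additive V) := AddCommGroup.zmodModule (n := p) hv0
  haveI : Nontrivial V := (Subgroup.nontrivial_iff_ne_bot _).2 hVne'
  let ρ : G →* Module.End (ZMod p) (Additive V) :=
    { toFun := fun g => AddMonoidHom.toZModLinearMap p
        (MonoidHom.toAdditive (MulAut.conjNormal (H := V) g : V ≃* V).toMonoidHom : Additive V →+ Additive V)
      map_one' := LinearMap.ext fun v => by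
        show Additive.ofMul (MulAut.conjNormal (H := V) (1 : G) (Additive.toMul v)) = v
        rw [map_one]; rfl
      map_mul' := fun g g' => LinearMap.ext fun v => by
        show Additive.ofMul (MulAut.conjNormal (H := V) (g * g') (Additive.toMul v)) = _
        rw [map_mul]; rfl }
  have hρ : ∀ (g : G) (v : V), ρ g (Additive.ofMul v) = Additive.ofMul (MulAut.conjNormal (H := V) g v) := fun g v => rfl
  obtain ⟨⟨f, hf⟩, hf1⟩ := Subgroup.ne_bot_iff_exists_ne_one.1 hFne
  have hf1' : f ≠ 1 := fun e => hf1 (Subtype.ext e)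
  have hFgen : ∀ y ∈ F, ∃ i : ℕ, f ^ i = y := by
    intro y hy
    have htop := zpowers_eq_top_of_prime_card (G := F) (g := ⟨f, hf⟩) hFcard (fun e => hf1' (congrArg Subtype.val e))
    obtain ⟨i, hi⟩ := (isOfFinOrder_of_finite (⟨f, hf⟩ : F)).mem_powers_iff_mem_zpowers.2 (htop ▸ Subgroup.mem_top (⟨y, hy⟩ : F))
    exact ⟨i, by simpa using congrArg Subtype.val hi⟩
  have hirr : ∀ W : Submodule (ZMod p) (Additive V), (∀ v ∈ W, ρ f v ∈ W) → W = ⊥ ∨ W = ⊤ := by
    intro W hW
    by_cases hW0 : W = ⊥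
    · exact Or.inl hW0
    right
    let W' : Subgroup G :=
      { carrier := {x | ∃ hx : x ∈ V, Additive.ofMul (⟨x, hx⟩ : V) ∈ W}
        one_mem' := ⟨one_mem _, W.zero_mem⟩
        mul_mem' := fun {x y} ⟨hx, hx'⟩ ⟨hy, hy'⟩ => ⟨mul_mem hx hy, W.add_mem hx' hy'⟩
        inv_mem' := fun {x} ⟨hx, hx'⟩ => ⟨inv_mem hx, W.neg_mem hx'⟩ }
    have hWf : ∀ (i : ℕ) (x : G), x ∈ W' → f ^ i * x * (f ^ i)⁻¹ ∈ W' := by
      intro i
      induction i with
      | zero => intro x hx; simpa using hx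
      | succ i ih =>
        intro x hx
        obtain ⟨h1, h2⟩ := ih x hx
        refine ⟨hVn.conj_mem x hx.1 _, ?_⟩
        have := hW _ h2
        rw [hρ] at this
        convert this using 2
        refine Subtype.ext ?_
        rw [MulAut.conjNormal_apply]
        simp [pow_succ', mul_assoc]
    have hWH : ∀ g ∈ stabilizer G a, ∀ x, x ∈ W' → g * x * g⁻¹ ∈ W' := by
      intro g hg x hx
      by_cases hx1 : x = 1
      · simp [hx1]
      obtain ⟨y, hy, hgy⟩ := horb _ (hVne x hx.1 hx1) g hg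
      obtain ⟨i, rfl⟩ := hFgen y hy
      have he : g * x * g⁻¹ = f ^ i * x * (f ^ i)⁻¹ := by
        have hm1 : g * x * g⁻¹ ∈ V := hVn.conj_mem x hx.1 g
        have hm2 : f ^ i * x * (f ^ i)⁻¹ ∈ V := hVn.conj_mem x hx.1 _
        have := hVr _ (mul_mem (inv_mem hm2) hm1) a (by
          rw [mul_smul, hconj g hg, ← hgy, ← hconj (f ^ i) (hFH hy), inv_smul_smul])
        exact (inv_mul_eq_one.1 this).symm
      rw [he]
      exact hWf i x hx
    have hn : W'.Normal := by
      constructor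
      intro x hx g
      obtain ⟨y, hy, hyg⟩ := hVt (g • a)
      have hmem : y⁻¹ * g ∈ stabilizer G a := by rw [mem_stabilizer_iff, mul_smul, ← hyg, inv_smul_smul]
      have h1 := hWH _ hmem x hx
      have h2 : g * x * g⁻¹ = y⁻¹ * g * x * (y⁻¹ * g)⁻¹ := by
        have hc' := hVc y hy _ (hVn.conj_mem x hx.1 (y⁻¹ * g))
        calc g * x * g⁻¹ = y * ((y⁻¹ * g) * x * (y⁻¹ * g)⁻¹) * y⁻¹ := by group
          _ = _ := by rw [hc']; group
      rw [h2]
      exact h1
    haveI := hn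
    haveI := h.prim
    have htop : ∀ o : Ω, ∃ x ∈ W', x • a = o := by
      rcases (IsPreprimitive.isTrivialBlock_of_isBlock (IsBlock.orbit_of_normal (N := W') a)) with hs | hu
      · exfalso
        obtain ⟨v, hv, hv0'⟩ := (Submodule.ne_bot_iff _).1 hW0
        have hmem : ((Additive.toMul v : V) : G) ∈ W' := ⟨(Additive.toMul v : V).2, hv⟩
        refine hv0' (Additive.toMul.injective (Subtype.ext (hVr _ (Additive.toMul v : V).2 a ?_)))
        exact hs (mem_orbit a (⟨_, hmem⟩ : W')) (mem_orbit_self a)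
      · intro o
        obtain ⟨x, hx⟩ : o ∈ orbit W' a := hu ▸ Set.mem_univ o
        exact ⟨x.1, x.2, hx⟩
    refine eq_top_iff.2 fun v _ => ?_
    obtain ⟨x, ⟨hxV, hxW⟩, hxa⟩ := htop (((Additive.toMul v : V) : G) • a)
    have := hVr _ (mul_mem (inv_mem hxV) (Additive.toMul v : V).2) a (by rw [mul_smul, ← hxa, inv_smul_smul])
    have e : (⟨x, hxV⟩ : V) = Additive.toMul v := Subtype.ext (inv_mul_eq_one.1 this)
    rw [e] at hxW
    exact hxW
  have hfq : (ρ f) ^ r = 1 := by rw [← map_pow, hFp f hf, map_one]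
  obtain ⟨hord, hsemi⟩ := irreducible_element (d := d) (q := r)
    ((Nat.card_congr Additive.toMul).trans hVcard) (ρ f) hfq hirr
  refine ⟨hord, F, hFH, hFn, hFcard, ?_⟩
  -- the two-point stabiliser
  set K := stabilizer G a ⊓ stabilizer G w with hK
  have hFK : ∀ x ∈ F, x ∈ K → x = 1 := by
    intro x hx hxK
    by_contra hx1
    exact hFs x hx hx1 w hw (mem_stabilizer_iff.1 hxK.2)
  have hKF : ∀ g : K, ∀ y, y ∈ F → (g : G) * y * (g : G)⁻¹ ∈ F := fun g y hy =>
    (Subgroup.mem_normalizer_iff.1 (hFn g.2.1) y).1 hy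
  haveI : (F.subgroupOf (stabilizer G a)).Normal := (Subgroup.normal_subgroupOf_iff_le_normalizer hFH).2 hFn
  obtain ⟨φ, hφ⟩ := exists_linear (F.subgroupOf (stabilizer G a))
    (fun x hx y hy => Subtype.ext (hFc _ hx _ hy)) (p := r) (e := 1)
    (fun x hx => Subtype.ext (hFp _ hx))
    (by rw [pow_one]; exact (Nat.card_congr (Subgroup.subgroupOfEquivOfLe hFH).toEquiv).trans hFcard)
  let ψ : K →* (ZMod r)ˣ :=
    (Units.map (Matrix.detMonoidHom : Matrix (Fin 1) (Fin 1) (ZMod r) →* ZMod r)).comp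
      (φ.comp (Subgroup.inclusion inf_le_left))
  have hψ : Function.Injective ψ := by
    rw [injective_iff_map_eq_one]
    intro k hk
    have h1 : φ (Subgroup.inclusion inf_le_left k) = 1 := by
      apply Units.ext
      have := congrArg (fun u : (ZMod r)ˣ => (u : ZMod r)) hk
      simp only [ψ, MonoidHom.comp_apply, Units.coe_map, Units.val_one] at this
      ext i j
      fin_cases i; fin_cases j
      rw [Units.val_one, Matrix.one_apply_eq, ← this]
      exact (Matrix.det_fin_one _).symm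
    have h2 : Subgroup.inclusion inf_le_left k ∈ φ.ker := h1
    rw [hφ, Subgroup.mem_centralizer_iff] at h2
    refine Subtype.ext (hFK _ (hFC _ k.2.1 fun y hy => ?_) k.2)
    have := h2 ⟨y, hFH hy⟩ hy
    exact (congrArg Subtype.val this).symm
  haveI : IsCyclic K := isCyclic_of_injective ψ hψ
  obtain ⟨⟨k, hk⟩, hkgen⟩ := IsCyclic.exists_generator (α := K)
  have hKdvd : Nat.card K ∣ d := by
    rw [← orderOf_eq_card_of_forall_mem_zpowers hkgen]
    refine orderOf_dvd_of_pow_eq_one (Subtype.ext ?_)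
    show k ^ d = 1
    have hkF : k ^ d ∈ F := by
      refine hFC _ (pow_mem hk.1 d) fun y hy => ?_
      obtain ⟨i, rfl⟩ := hFgen y hy
      obtain ⟨j, hj⟩ := hFgen _ (hKF ⟨k, hk⟩ f hf)
      let ku : (Module.End (ZMod p) (Additive V))ˣ := (MonoidHom.toHomUnits ρ) k
      have hku : (ku : Module.End (ZMod p) (Additive V)) * ρ f * ((ku⁻¹ : (Module.End (ZMod p) (Additive V))ˣ)) = ρ f ^ j := by
        show ρ k * ρ f * ((ku⁻¹ : (Module.End (ZMod p) (Additive V))ˣ) : Module.End (ZMod p) (Additive V)) = _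
        rw [show ku⁻¹ = (MonoidHom.toHomUnits ρ) k⁻¹ from (map_inv _ k).symm, MonoidHom.coe_toHomUnits,
          ← map_mul, ← map_mul, ← map_pow, hj]
      have hd' := hsemi ku j hku
      rw [show ku ^ d = (MonoidHom.toHomUnits ρ) (k ^ d) from (map_pow _ k d).symm, MonoidHom.coe_toHomUnits,
        ← map_mul, ← map_mul] at hd'
      -- the representation is faithful on the stabiliser
      have hfaith : ∀ x y : G, x ∈ stabilizer G a → y ∈ stabilizer G a → ρ x = ρ y → x = y := by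
        intro x y hx hy hxy
        refine eq_of_smul_eq_smul (α := Ω) fun (o : Ω) => ?_
        obtain ⟨v, hv, rfl⟩ := hVt o
        have e := congrArg (fun T : Module.End (ZMod p) (Additive V) => ((Additive.toMul (T (Additive.ofMul ⟨v, hv⟩)) : V) : G)) hxy
        simp only [hρ, toMul_ofMul, MulAut.conjNormal_apply] at e
        rw [← hconj x hx v, ← hconj y hy v, e]
      have hcd : Commute (k ^ d) f :=
        hfaith _ _ (mul_mem (pow_mem hk.1 d) (hFH hf)) (mul_mem (hFH hf) (pow_mem hk.1 d)) hd'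
      exact (hcd.pow_right i).eq
    exact hFK _ hkF (pow_mem hk d)
  refine ⟨⟨k, le_antisymm ?_ (sup_le hFH (Subgroup.zpowers_le.2 hk.1))⟩, ?_⟩
  · intro g hg
    obtain ⟨y, hy, hgy⟩ := horb w hw g hg
    have hmem : y⁻¹ * g ∈ K := Subgroup.mem_inf.2 ⟨mul_mem (inv_mem (hFH hy)) hg, by
      rw [mem_stabilizer_iff, mul_smul, ← hgy, inv_smul_smul]⟩
    obtain ⟨i, hi⟩ := Subgroup.mem_zpowers_iff.1 (hkgen ⟨_, hmem⟩)
    have e : g = y * k ^ i := by
      have := congrArg Subtype.val hi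
      simp at this
      rw [this]; group
    rw [e]
    exact mul_mem (Subgroup.mem_sup_left hy) (Subgroup.mem_sup_right (zpow_mem (Subgroup.mem_zpowers k) i))
  · have hsub : (K.subgroupOf (stabilizer G a)).index = r := by
      have : K.subgroupOf (stabilizer G a) = stabilizer (stabilizer G a) w := by
        ext g
        simp only [hK, Subgroup.mem_subgroupOf, Subgroup.mem_inf, mem_stabilizer_iff, Subgroup.smul_def]
        exact ⟨fun e => e.2, fun e => ⟨mem_stabilizer_iff.1 g.2, e⟩⟩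
      rw [this, index_stabilizer]
      exact (hocard w hw).trans hFcard
    rw [← (K.subgroupOf (stabilizer G a)).card_mul_index, hsub, mul_comm,
      Nat.card_congr (Subgroup.subgroupOfEquivOfLe (show K ≤ stabilizer G a from inf_le_left)).toEquiv]
    exact Nat.mul_dvd_mul_left r hKdvd

end Cfsg.Agent.Lie.ExtPrim
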